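import Mathlib
import Cfsg.Agent.LieExceptional.SingerCentralizer
import Cfsg.Agent.Lib.Zsigmondy
import Cfsg.Agent.LieExceptional.CyclicSylow
import Cfsg.Agent.S0243
import Cfsg.Agent.H94.Sp.Base_m3
import Cfsg.Agent.Prune
set_option linter.all false

section
prune_inst 0x7f00000000000000000000000000000000000000000000000000000000000000000000000000000000000000000000000000000000000000000000000000000000000000000000000000000000000000003fffffffffffffffffffffffffffbeffbdffffffff

-- part: H371/Basic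
section
set_option linter.all false
open scoped Cfsg.Agent.FastGrp

/-!
# Prime graph basics (helper371)

`PAdj G a b`: `a ≠ b` primes with an element of order `a * b`; `PConn G`: reflexive transitive closure.
-/

set_option autoImplicit false

namespace Cfsg.Agent.H371

/-- Adjacency in the prime graph of `G`. -/
abbrev PAdj (G : Type*) [Group G] : ℕ → ℕ → Prop :=
  fun a b : ℕ => a.Prime ∧ b.Prime ∧ a ≠ b ∧ ∃ g : G, orderOf g = a * b

/-- Being joined by a path in the prime graph of `G`. -/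
abbrev PConn (G : Type*) [Group G] : ℕ → ℕ → Prop := Relation.ReflTransGen (PAdj G)

section
variable {G : Type*} [Group G]

theorem PAdj.symm {a b : ℕ} (h : PAdj G a b) : PAdj G b a := by
  obtain ⟨ha, hb, hab, g, hg⟩ := h
  exact ⟨hb, ha, hab.symm, g, by rw [hg, mul_comm]⟩

theorem PAdj.conn {a b : ℕ} (h : PAdj G a b) : PConn G a b := Relation.ReflTransGen.single h

theorem PConn.symm {a b : ℕ} (h : PConn G a b) : PConn G b a := by
  induction h with
  | refl => exact Relation.ReflTransGen.refl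
  | tail _ h2 ih => exact Relation.ReflTransGen.head (PAdj.symm h2) ih

theorem PConn.trans {a b c : ℕ} (h : PConn G a b) (h' : PConn G b c) : PConn G a c :=
  Relation.ReflTransGen.trans h h'

/-- A divisor of an element order is an element order. -/
theorem exists_orderOf_of_dvd {x : G} {n : ℕ} (hx : IsOfFinOrder x) (hn : n ∣ orderOf x) :
    ∃ y ∈ Subgroup.zpowers x, orderOf y = n := by
  obtain ⟨m, hm⟩ := hn
  have hpos : 0 < orderOf x := hx.orderOf_pos
  have hm0 : m ≠ 0 := by
    rintro rfl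
    rw [mul_zero] at hm
    omega
  refine ⟨x ^ m, Subgroup.pow_mem _ (Subgroup.mem_zpowers x) m, ?_⟩
  rw [orderOf_pow' x hm0, hm, Nat.gcd_eq_right (Dvd.intro_left n rfl)]
  exact Nat.mul_div_cancel n (Nat.pos_of_ne_zero hm0)

/-- Commuting elements of orders divisible by distinct primes `a`, `b` give an edge. -/
theorem adj_of_commute [Finite G] {x y : G} (h : Commute x y) {a b : ℕ} (ha : a.Prime)
    (hb : b.Prime) (hab : a ≠ b) (hx : a ∣ orderOf x) (hy : b ∣ orderOf y) : PAdj G a b := by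
  obtain ⟨x', hx', hxo⟩ := exists_orderOf_of_dvd (isOfFinOrder_of_finite x) hx
  obtain ⟨y', hy', hyo⟩ := exists_orderOf_of_dvd (isOfFinOrder_of_finite y) hy
  obtain ⟨m, rfl⟩ := Subgroup.mem_zpowers_iff.mp hx'
  obtain ⟨k, rfl⟩ := Subgroup.mem_zpowers_iff.mp hy'
  refine ⟨ha, hb, hab, x ^ m * y ^ k, ?_⟩
  have hc : Commute (x ^ m) (y ^ k) := h.zpow_zpow m k
  rw [hc.orderOf_mul_eq_mul_orderOf_of_coprime, hxo, hyo]
  rw [hxo, hyo]
  exact (Nat.coprime_primes ha hb).2 hab

/-- If a non-trivial `z` commutes with an element of order divisible by `a` and with an element of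
order divisible by `b` then `a` and `b` are joined by a path. -/
theorem conn_of_center [Finite G] {x z t : G} (hxz : Commute x z) (hzt : Commute z t) (hz : z ≠ 1)
    {a b : ℕ} (ha : a.Prime) (hb : b.Prime) (hx : a ∣ orderOf x) (ht : b ∣ orderOf t) :
    PConn G a b := by
  obtain ⟨s, hs, hsz⟩ := Nat.exists_prime_and_dvd (n := orderOf z)
    (by rw [Ne, orderOf_eq_one_iff]; exact hz)
  have h1 : PConn G a s := by
    rcases eq_or_ne a s with rfl | h
    · exact Relation.ReflTransGen.refl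
    · exact (adj_of_commute hxz ha hs h hx hsz).conn
  have h2 : PConn G s b := by
    rcases eq_or_ne s b with rfl | h
    · exact Relation.ReflTransGen.refl
    · exact (adj_of_commute hzt hs hb h hsz ht).conn
  exact h1.trans h2

/-- A non-trivial power-`a` torsion element has order `a`. -/
theorem dvd_orderOf_of_pow {x : G} {a : ℕ} (ha : a.Prime) (h1 : x ≠ 1) (hx : x ^ a = 1) :
    a ∣ orderOf x := by
  have := Fact.mk ha
  rw [orderOf_eq_prime hx h1]

end

section
variable {G H : Type*} [Group G] [Group H]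

/-- Transport of edges through an injective homomorphism. -/
theorem PAdj.map (f : G →* H) (hf : Function.Injective f) {a b : ℕ} (h : PAdj G a b) :
    PAdj H a b := by
  obtain ⟨ha, hb, hab, g, hg⟩ := h
  exact ⟨ha, hb, hab, f g, by rw [orderOf_injective f hf, hg]⟩

theorem PConn.map (f : G →* H) (hf : Function.Injective f) {a b : ℕ} (h : PConn G a b) :
    PConn H a b := by
  induction h with
  | refl => exact Relation.ReflTransGen.refl
  | tail _ h2 ih => exact ih.tail (PAdj.map f hf h2)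

theorem PAdj.equiv (e : G ≃* H) {a b : ℕ} : PAdj G a b ↔ PAdj H a b :=
  ⟨fun h => h.map e.toMonoidHom e.injective, fun h => h.map e.symm.toMonoidHom e.symm.injective⟩

theorem PConn.equiv (e : G ≃* H) {a b : ℕ} : PConn G a b ↔ PConn H a b :=
  ⟨fun h => h.map e.toMonoidHom e.injective, fun h => h.map e.symm.toMonoidHom e.symm.injective⟩

/-- Edges from commuting elements upstairs. -/
theorem adj_of_hom [Finite H] (π : G →* H) {x y : G} (h : Commute x y) {a b : ℕ} (ha : a.Prime)
    (hb : b.Prime) (hab : a ≠ b) (hx : x ^ a = 1) (hy : y ^ b = 1) (hx1 : π x ≠ 1)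
    (hy1 : π y ≠ 1) : PAdj H a b :=
  adj_of_commute (h.map π) ha hb hab
    (dvd_orderOf_of_pow ha hx1 (by rw [← map_pow, hx, map_one]))
    (dvd_orderOf_of_pow hb hy1 (by rw [← map_pow, hy, map_one]))

/-- Paths from commuting elements upstairs. -/
theorem conn_of_hom [Finite H] (π : G →* H) {x z t : G} (hxz : Commute x z) (hzt : Commute z t)
    {a b : ℕ} (ha : a.Prime) (hb : b.Prime) (hx : x ^ a = 1) (ht : t ^ b = 1) (hx1 : π x ≠ 1)
    (hz1 : π z ≠ 1) (ht1 : π t ≠ 1) : PConn H a b :=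
  conn_of_center (hxz.map π) (hzt.map π) hz1 ha hb
    (dvd_orderOf_of_pow ha hx1 (by rw [← map_pow, hx, map_one]))
    (dvd_orderOf_of_pow hb ht1 (by rw [← map_pow, ht, map_one]))

end

end Cfsg.Agent.H371
end

-- part: H371/AlgLemma
section
set_option linter.all false
open scoped Cfsg.Agent.FastGrp

/-!
# The torus of an irreducible isometry of prime order (helper371)

`V` a finite space with a non-degenerate form `B`, `x` an isometry of odd prime order `p` acting
irreducibly (`p ∣ q ^ dim V - 1`, `p ∤ q ^ d - 1` for `0 < d < dim V`). Then the centralizer of `x` in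
`End V` is a field `K` with `|K| = |V| = N²`, the adjoint is the automorphism `y ↦ y ^ N` of `K`, and the
elements `y` of `K` with `y ^ (N+1) = 1` are isometries: a cyclic group of order `N + 1` containing `x`.
-/

set_option autoImplicit false

namespace Cfsg.Agent.H371.Alg

open Module

/-- An involutive automorphism of a finite field with `N²` elements is `y ↦ y ^ N`. -/
theorem eq_pow_of_involutive {K : Type*} [Field K] [Finite K] (f : K →+* K)
    (hff : ∀ y, f (f y) = y) (hne : ∃ y, f y ≠ y) {N : ℕ} (hN : N * N = Nat.card K) :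
    ∀ y, f y = y ^ N := by
  classical
  let _ : Fintype K := Fintype.ofFinite K
  obtain ⟨r, hr⟩ := CharP.exists K
  have hrp : Fact r.Prime := ⟨CharP.char_is_prime K r⟩
  let _ : Algebra (ZMod r) K := ZMod.algebra K r
  have hbij : Function.Bijective f :=
    ⟨fun a b hab => by rw [← hff a, hab, hff], fun y => ⟨f y, hff y⟩⟩
  let e : K ≃+* K := RingEquiv.ofBijective f hbij
  let e' : Gal(K/(ZMod r)) := AlgEquiv.ofRingEquiv (f := e) (fun c => by
    have : (e : K →+* K).comp (algebraMap (ZMod r) K) = algebraMap (ZMod r) K := RingHom.ext_zmod _ _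
    exact RingHom.congr_fun this c)
  have he' : ∀ y, e' y = f y := fun y => rfl
  obtain ⟨i, hi⟩ := (FiniteField.bijective_frobeniusAlgEquivOfAlgebraic_pow (ZMod r) K).2 e'
  have hi' : FiniteField.frobeniusAlgEquivOfAlgebraic (ZMod r) K ^ (i : ℕ) = e' := hi
  have h1 : FiniteField.frobeniusAlgEquivOfAlgebraic (ZMod r) K ^ ((i : ℕ) * 2) = 1 := by
    rw [pow_mul, hi', pow_two]
    ext y
    change e' (e' y) = y
    rw [he', he', hff]
  have h2 := orderOf_dvd_of_pow_eq_one h1
  rw [FiniteField.orderOf_frobeniusAlgEquivOfAlgebraic] at h2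
  have h3 : (i : ℕ) ≠ 0 := by
    intro h0
    obtain ⟨y, hy⟩ := hne
    apply hy
    rw [← he', ← hi', h0, pow_zero]
    rfl
  have h4 : (i : ℕ) < finrank (ZMod r) K := i.2
  have h5 : (i : ℕ) * 2 = finrank (ZMod r) K := by
    obtain ⟨m, hm⟩ := h2
    rcases m with _ | _ | m
    · omega
    · omega
    · nlinarith
  have h6 : N = r ^ (i : ℕ) := by
    have : N * N = r ^ (i : ℕ) * r ^ (i : ℕ) := by
      rw [hN, Nat.card_eq_fintype_card, Module.card_eq_pow_finrank (K := ZMod r), ZMod.card,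
        ← pow_add, ← mul_two, h5]
    exact Nat.mul_self_inj.1 this
  intro y
  have h7 : (FiniteField.frobeniusAlgEquivOfAlgebraic (ZMod r) K ^ (i : ℕ)) y = y ^ r ^ (i : ℕ) := by
    rw [AlgEquiv.coe_pow, FiniteField.coe_frobeniusAlgEquivOfAlgebraic_iterate, ZMod.card]
  rw [← he', ← hi', h7, h6]

section form
variable {F V : Type*} [Field F] [Finite F] [AddCommGroup V] [Module F V] [Finite V]
  {σ : F →+* F} {ε : F} {B : V → V → F}

omit [Finite F] [Finite V] [Module F V] in
theorem right_add (hadd : ∀ u v w, B (u + v) w = B u w + B v w)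
    (hsym : ∀ v w, B w v = ε * σ (B v w)) (u v w : V) : B w (u + v) = B w u + B w v := by
  rw [hsym (u + v) w, hadd, map_add, mul_add, ← hsym, ← hsym]

omit [Finite F] [Finite V] in
theorem right_smul (hsmul : ∀ (c : F) v w, B (c • v) w = c * B v w)
    (hsym : ∀ v w, B w v = ε * σ (B v w)) (c : F) (v w : V) : B w (c • v) = σ c * B w v := by
  rw [hsym (c • v) w, hsmul, map_mul, hsym v w]
  ring

/-- the functional `v ↦ B v w` -/
def dl (hadd : ∀ u v w, B (u + v) w = B u w + B v w) (hsmul : ∀ (c : F) v w, B (c • v) w = c * B v w)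
    (w : V) : Dual F V where
  toFun v := B v w
  map_add' u v := hadd u v w
  map_smul' c v := hsmul c v w

theorem dl_bijective (hadd : ∀ u v w, B (u + v) w = B u w + B v w)
    (hsmul : ∀ (c : F) v w, B (c • v) w = c * B v w) (hsym : ∀ v w, B w v = ε * σ (B v w))
    (hnd : ∀ w, (∀ v, B v w = 0) → w = 0) : Function.Bijective (dl hadd hsmul) := by
  have hfd : FiniteDimensional F V := Module.Finite.of_finite
  have hsub : ∀ u v w, B w (u - v) = B w u - B w v := by
    intro u v w
    have h := right_add hadd hsym (u - v) v w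
    rw [sub_add_cancel] at h
    rw [h]; ring
  have hinj : Function.Injective (dl hadd hsmul) := by
    intro a b hab
    have h1 : a - b = 0 := by
      apply hnd
      intro v
      rw [hsub]
      have : dl hadd hsmul a v = dl hadd hsmul b v := by rw [hab]
      change B v a = B v b at this
      rw [this, sub_self]
    exact sub_eq_zero.1 h1
  have : Finite (Dual F V) := Module.finite_of_finite F
  have hcard : Nat.card (Dual F V) = Nat.card V := by
    rw [Module.natCard_eq_pow_finrank (K := F) (V := Dual F V),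
      Module.natCard_eq_pow_finrank (K := F) (V := V), Subspace.dual_finrank_eq]
  exact (Nat.bijective_iff_injective_and_card _).2 ⟨hinj, hcard.symm⟩

theorem exists_adjoint (hadd : ∀ u v w, B (u + v) w = B u w + B v w)
    (hsmul : ∀ (c : F) v w, B (c • v) w = c * B v w) (hsym : ∀ v w, B w v = ε * σ (B v w))
    (hnd : ∀ w, (∀ v, B v w = 0) → w = 0) (a : Module.End F V) :
    ∃ a' : Module.End F V, ∀ v w, B (a v) w = B v (a' w) := by
  have hbij := dl_bijective hadd hsmul hsym hnd
  have huniq : ∀ w w', (∀ v, B v w = B v w') → w = w' := by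
    intro w w' h
    apply hbij.1
    ext v
    exact h v
  have hex : ∀ w, ∃ w', ∀ v, B (a v) w = B v w' := by
    intro w
    obtain ⟨w', hw'⟩ := hbij.2 ((dl hadd hsmul w).comp a)
    refine ⟨w', fun v => ?_⟩
    have := LinearMap.congr_fun hw' v
    exact this.symm
  choose g hg using hex
  refine ⟨{ toFun := g, map_add' := ?_, map_smul' := ?_ }, fun v w => hg w v⟩
  · intro w w'
    apply huniq
    intro v
    rw [← hg, right_add hadd hsym, right_add hadd hsym, ← hg, ← hg]
  · intro c w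
    apply huniq
    intro v
    rw [← hg, right_smul hsmul hsym, RingHom.id_apply, right_smul hsmul hsym, ← hg]

/-- **Torus of an irreducible isometry of prime order.** -/
theorem exists_torus (σ : F →+* F) (ε : F) (B : V → V → F)
    (hadd : ∀ u v w, B (u + v) w = B u w + B v w) (hsmul : ∀ (c : F) v w, B (c • v) w = c * B v w)
    (hsym : ∀ v w, B w v = ε * σ (B v w)) (hnd : ∀ w, (∀ v, B v w = 0) → w = 0)
    {p : ℕ} (hp : p.Prime) (hp2 : p ≠ 2) (x : V ≃ₗ[F] V) (hxp : x ^ p = 1) (hx1 : x ≠ 1)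
    (hxB : ∀ v w, B (x v) (x w) = B v w) (hpn : p ∣ Nat.card F ^ Module.finrank F V - 1)
    (hpd : ∀ d, 0 < d → d < Module.finrank F V → ¬ p ∣ Nat.card F ^ d - 1)
    {N : ℕ} (hN : N * N = Nat.card V) :
    ∃ g : V ≃ₗ[F] V, orderOf g = N + 1 ∧ x ∈ Subgroup.zpowers g ∧ ∀ v w, B (g v) (g w) = B v w := by
  have hfd : FiniteDimensional F V := Module.Finite.of_finite
  have hbij := dl_bijective hadd hsmul hsym hnd
  have huniq : ∀ w w', (∀ v, B v w = B v w') → w = w' := by
    intro w w' h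
    apply hbij.1
    ext v
    exact h v
  have hext : ∀ a b : Module.End F V, (∀ v w, B v (a w) = B v (b w)) → a = b := by
    intro a b h
    ext w
    exact huniq _ _ (fun v => h v w)
  set x' : Module.End F V := (x : V →ₗ[F] V) with hx'
  have hx'v : ∀ v, x' v = x v := fun v => rfl
  have hpow : ∀ m : ℕ, x' ^ m = ((x ^ m : V ≃ₗ[F] V) : V →ₗ[F] V) := by
    intro m
    induction m with
    | zero => rfl
    | succ m ih => rw [pow_succ, ih, pow_succ]; rfl
  have hxp' : x' ^ p = 1 := by rw [hpow, hxp]; rfl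
  have hx1' : x' ≠ 1 := by
    intro h
    apply hx1
    ext v
    have := LinearMap.congr_fun h v
    exact this
  have hdom := LieExceptional.SingerCentralizer.isDomain_centralizer hp hxp' hx1' hpn hpd
  have hcom := @LieExceptional.SingerCentralizer.commute_of_commute F V _ _ _ _ _ x' p hp hxp' hx1' hpn hpd
  have : Finite (Module.End F V) := Module.finite_of_finite F
  have hfield := Finite.isDomain_to_isField (Subalgebra.centralizer F ({x'} : Set (Module.End F V)))
  let _ : Field (Subalgebra.centralizer F ({x'} : Set (Module.End F V))) := hfield.toField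
  -- membership
  have hmem : ∀ a : Module.End F V, Commute a x' →
      a ∈ Subalgebra.centralizer F ({x'} : Set (Module.End F V)) := fun a ha =>
    (Subalgebra.mem_centralizer_iff F).2 (fun y hy => by rw [Set.mem_singleton_iff.1 hy]; exact ha.symm)
  have hmem' : ∀ a : Subalgebra.centralizer F ({x'} : Set (Module.End F V)),
      Commute (a : Module.End F V) x' := fun a => (((Subalgebra.mem_centralizer_iff F).1 a.2) x' rfl).symm
  -- adjoint
  choose st hst using exists_adjoint hadd hsmul hsym hnd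
  have hst2 : ∀ a v w, B (st a v) w = B v (a w) := by
    intro a v w
    rw [hsym w (st a v), ← hst, ← hsym]
  have hstst : ∀ a, st (st a) = a := fun a => hext _ _ (fun v w => by rw [← hst, hst2])
  have hstadd : ∀ a b, st (a + b) = st a + st b := fun a b => hext _ _ (fun v w => by
    rw [← hst, LinearMap.add_apply, LinearMap.add_apply, hadd, right_add hadd hsym, ← hst, ← hst])
  have hstmul : ∀ a b, st (a * b) = st b * st a := fun a b => hext _ _ (fun v w => by
    rw [← hst, Module.End.mul_apply, Module.End.mul_apply, hst, hst])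
  have hstone : st 1 = 1 := hext _ _ (fun v w => by rw [← hst]; rfl)
  have hstzero : st 0 = 0 := by
    have := hstadd 0 0
    rw [add_zero] at this
    exact left_eq_add.1 this
  set xi : Module.End F V := ((x⁻¹ : V ≃ₗ[F] V) : V →ₗ[F] V) with hxi
  have hxxi : x' * xi = 1 := by
    ext v
    change x (x⁻¹ v) = v
    exact x.apply_symm_apply v
  have hxix : xi * x' = 1 := by
    ext v
    change x⁻¹ (x v) = v
    exact x.symm_apply_apply v
  have hstx : st x' = xi := hext _ _ (fun v w => by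
    rw [← hst, hx'v, ← hxB v (xi w)]
    congr 1
    exact (x.apply_symm_apply w).symm)
  have hstmem : ∀ a : Subalgebra.centralizer F ({x'} : Set (Module.End F V)),
      Commute (st (a : Module.End F V)) x' := by
    intro a
    have h1 := congrArg st (hmem' a).eq
    rw [hstmul, hstmul, hstx] at h1
    have h2 : Commute (st (a : Module.End F V)) xi := h1.symm
    have h3 : x' * st (a : Module.End F V) = st (a : Module.End F V) * x' := by
      calc x' * st (a : Module.End F V) = x' * (st (a : Module.End F V) * xi) * x' := by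
            rw [mul_assoc, mul_assoc, hxix, mul_one]
        _ = x' * (xi * st (a : Module.End F V)) * x' := by rw [h2.eq]
        _ = st (a : Module.End F V) * x' := by rw [← mul_assoc, hxxi, one_mul]
    exact h3.symm
  let f : Subalgebra.centralizer F ({x'} : Set (Module.End F V)) →+*
      Subalgebra.centralizer F ({x'} : Set (Module.End F V)) :=
    { toFun := fun a => ⟨st a, hmem _ (hstmem a)⟩
      map_one' := Subtype.ext hstone
      map_zero' := Subtype.ext hstzero
      map_add' := fun a b => Subtype.ext (hstadd a b)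
      map_mul' := fun a b => Subtype.ext (by
        change st ((a : Module.End F V) * b) = st (a : Module.End F V) * st (b : Module.End F V)
        rw [hstmul]
        exact (hcom (hstmem b) (hstmem a)).eq) }
  -- card
  have hnt : Nontrivial V := by
    rw [← not_subsingleton_iff_nontrivial]
    intro h
    exact hx1' (LinearMap.ext fun v => Subsingleton.elim _ _)
  obtain ⟨v0, hv0⟩ := exists_ne (0 : V)
  have hcardK : Nat.card (Subalgebra.centralizer F ({x'} : Set (Module.End F V))) = Nat.card V := by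
    refine Nat.card_congr (Equiv.ofBijective
      (fun a : Subalgebra.centralizer F ({x'} : Set (Module.End F V)) => (a : Module.End F V) v0) ⟨?_, ?_⟩)
    · intro a b hab
      by_contra hne
      have h1 : (a : Module.End F V) - b ≠ 0 := by
        intro h
        exact hne (Subtype.ext (sub_eq_zero.1 h))
      have h2 : Commute ((a : Module.End F V) - b) x' := (hmem' a).sub_left (hmem' b)
      have h3 := LieExceptional.SingerCentralizer.injective_of_commute hp hxp' hx1' hpn hpd h2 h1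
      apply hv0
      apply h3
      rw [map_zero, LinearMap.sub_apply]
      exact sub_eq_zero.2 hab
    · let W : Submodule F V :=
        { carrier := {v | ∃ a : Subalgebra.centralizer F ({x'} : Set (Module.End F V)),
            (a : Module.End F V) v0 = v}
          add_mem' := by
            rintro _ _ ⟨a, rfl⟩ ⟨b, rfl⟩
            exact ⟨a + b, rfl⟩
          zero_mem' := ⟨0, rfl⟩
          smul_mem' := by
            rintro c _ ⟨a, rfl⟩
            exact ⟨c • a, rfl⟩ }
      have hW := LieExceptional.SingerCentralizer.invariant_eq_bot_or_top hp hxp' hx1' hpn hpd W (by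
        rintro _ ⟨a, rfl⟩
        exact ⟨⟨x', hmem x' (Commute.refl x')⟩ * a, rfl⟩)
      intro v
      rcases hW with h | h
      · exfalso
        have : v0 ∈ W := ⟨1, rfl⟩
        rw [h] at this
        exact hv0 ((Submodule.mem_bot F).1 this)
      · have : v ∈ W := by rw [h]; exact Submodule.mem_top
        exact this
  have hf := eq_pow_of_involutive f (fun a => Subtype.ext (hstst a)) (by
    refine ⟨⟨x', hmem x' (Commute.refl x')⟩, fun h => ?_⟩
    have h1 : xi = x' := by
      rw [← hstx]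
      exact congrArg Subtype.val h
    have h2 : x' ^ 2 = 1 := by rw [pow_two]; nth_rw 2 [← h1]; exact hxxi
    have h3 : x' ^ Nat.gcd 2 p = 1 := by
      apply pow_gcd_eq_one.2
      exact ⟨h2, hxp'⟩
    rw [(Nat.coprime_primes Nat.prime_two hp).2 hp2.symm, pow_one] at h3
    exact hx1' h3) (N := N) (by rw [hN, hcardK])
  -- the generator
  have hN1 : N ≠ 0 := by
    rintro rfl
    rw [zero_mul] at hN
    exact Nat.card_pos.ne hN
  obtain ⟨g0, hg0⟩ := IsCyclic.exists_ofOrder_eq_natCard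
    (α := (Subalgebra.centralizer F ({x'} : Set (Module.End F V)))ˣ)
  obtain ⟨g, -, hg⟩ := exists_orderOf_of_dvd (x := g0) (n := N + 1) (isOfFinOrder_of_finite g0) (by
    rw [hg0, Nat.card_units, hcardK, ← hN]
    refine ⟨N - 1, ?_⟩
    have := Nat.mul_self_sub_mul_self_eq N 1
    rwa [mul_one] at this)
  let φ : (Subalgebra.centralizer F ({x'} : Set (Module.End F V)))ˣ →* (V ≃ₗ[F] V) :=
    (LinearMap.GeneralLinearGroup.generalLinearEquiv F V).toMonoidHom.comp
      (Units.map (Subalgebra.centralizer F ({x'} : Set (Module.End F V))).val.toRingHom.toMonoidHom)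
  have hφ : ∀ (u : (Subalgebra.centralizer F ({x'} : Set (Module.End F V)))ˣ) (v : V),
      φ u v = ((u : Subalgebra.centralizer F ({x'} : Set (Module.End F V))) : Module.End F V) v :=
    fun u v => rfl
  have hφinj : Function.Injective φ := by
    intro u u' h
    apply Units.ext
    apply Subtype.ext
    apply LinearMap.ext
    intro v
    rw [← hφ, h, hφ]
  have hkey : ∀ u : (Subalgebra.centralizer F ({x'} : Set (Module.End F V)))ˣ, u ^ (N + 1) = 1 →
      ∀ v w, B (φ u v) (φ u w) = B v w := by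
    intro u hu v w
    rw [hφ, hφ, hst]
    have h1 : st ((u : Subalgebra.centralizer F ({x'} : Set (Module.End F V))) : Module.End F V) *
        ((u : Subalgebra.centralizer F ({x'} : Set (Module.End F V))) : Module.End F V) = 1 := by
      have h2 : f (u : Subalgebra.centralizer F ({x'} : Set (Module.End F V))) * u = 1 := by
        rw [hf, ← pow_succ, ← Units.val_pow_eq_pow_val, hu, Units.val_one]
      exact congrArg Subtype.val h2
    have h3 := LinearMap.congr_fun h1 w
    rw [Module.End.mul_apply] at h3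
    rw [h3]
    rfl
  refine ⟨φ g, by rw [orderOf_injective φ hφinj, hg], ?_, hkey g (by rw [← hg]; exact pow_orderOf_eq_one g)⟩
  -- `x ∈ ⟨g⟩`
  let xu : (Subalgebra.centralizer F ({x'} : Set (Module.End F V)))ˣ :=
    { val := ⟨x', hmem x' (Commute.refl x')⟩
      inv := ⟨xi, hmem xi (by rw [commute_iff_eq, hxix, hxxi])⟩
      val_inv := Subtype.ext hxxi
      inv_val := Subtype.ext hxix }
  have hxu : φ xu = x := by
    ext v
    rw [hφ]
    rfl
  have hxu1 : xu ^ (N + 1) = 1 := by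
    apply Units.ext
    rw [Units.val_pow_eq_pow_val, pow_succ, ← hf]
    apply Subtype.ext
    change st x' * x' = 1
    rw [hstx, hxix]
  have hprim : IsPrimitiveRoot g (N + 1) := by
    rw [← hg]
    exact IsPrimitiveRoot.orderOf g
  have : NeZero (N + 1) := ⟨by omega⟩
  have hmemx : xu ∈ Subgroup.zpowers g := by
    rw [hprim.zpowers_eq, mem_rootsOfUnity]
    exact hxu1
  rw [← hxu]
  obtain ⟨k, hk⟩ := Subgroup.mem_zpowers_iff.1 hmemx
  exact Subgroup.mem_zpowers_iff.2 ⟨k, by rw [← hk, map_zpow]⟩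

/-- **Torus of an irreducible isometry of prime order, quadratic forms in any characteristic.** -/
theorem exists_torus_quad (B : V → V → F) (Q : V → F)
    (hadd : ∀ u v w, B (u + v) w = B u w + B v w) (hsmul : ∀ (c : F) v w, B (c • v) w = c * B v w)
    (hsym : ∀ v w, B w v = B v w) (hnd : ∀ w, (∀ v, B v w = 0) → w = 0)
    (hQ : ∀ v w, Q (v + w) = Q v + Q w + B v w) (hQs : ∀ (c : F) v, Q (c • v) = c ^ 2 * Q v)
    {p : ℕ} (hp : p.Prime) (hp2 : p ≠ 2) (x : V ≃ₗ[F] V) (hxp : x ^ p = 1) (hx1 : x ≠ 1)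
    (hxQ : ∀ v, Q (x v) = Q v) (hpn : p ∣ Nat.card F ^ Module.finrank F V - 1)
    (hpd : ∀ d, 0 < d → d < Module.finrank F V → ¬ p ∣ Nat.card F ^ d - 1)
    {N : ℕ} (hN : N * N = Nat.card V) :
    ∃ g : V ≃ₗ[F] V, orderOf g = N + 1 ∧ x ∈ Subgroup.zpowers g ∧
      (∀ v w, B (g v) (g w) = B v w) ∧ ∀ v, Q (g v) = Q v := by
  have hfd : FiniteDimensional F V := Module.Finite.of_finite
  have hB : ∀ v w, B v w = Q (v + w) - Q v - Q w := fun v w => by rw [hQ]; ring
  have hxB : ∀ v w, B (x v) (x w) = B v w := by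
    intro v w
    rw [hB, hB, ← map_add, hxQ, hxQ, hxQ]
  obtain ⟨g, hg, hxg, hgB⟩ := exists_torus (RingHom.id F) 1 B hadd hsmul
    (fun v w => by rw [hsym, one_mul, RingHom.id_apply]) hnd hp hp2 x hxp hx1 hxB hpn hpd hN
  refine ⟨g, hg, hxg, hgB, ?_⟩
  have hcomm : ∀ v, g (x v) = x (g v) := by
    obtain ⟨k, hk⟩ := Subgroup.mem_zpowers_iff.1 hxg
    have h1 : g * x = x * g := by rw [← hk]; exact ((Commute.refl g).zpow_right k).eq
    intro v
    exact LinearEquiv.congr_fun h1 v
  -- the difference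
  have hQ0 : Q 0 = 0 := by
    have := hQs 0 0
    rw [smul_zero] at this
    rw [this]; ring
  let δ : V → F := fun v => Q (g v) - Q v
  have hδadd : ∀ v w, δ (v + w) = δ v + δ w := by
    intro v w
    simp only [δ]
    rw [map_add, hQ, hQ, hgB]
    ring
  have hδsmul : ∀ (c : F) v, δ (c • v) = c ^ 2 * δ v := by
    intro c v
    simp only [δ]
    rw [map_smul, hQs, hQs]
    ring
  have hδx : ∀ v, δ (x v) = δ v := by
    intro v
    simp only [δ]
    rw [hcomm, hxQ, hxQ]
  let W : Submodule F V :=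
    { carrier := {v | δ v = 0}
      add_mem' := by
        intro v w hv hw
        change δ (v + w) = 0
        rw [hδadd, hv, hw, add_zero]
      zero_mem' := by
        change Q (g 0) - Q 0 = 0
        rw [map_zero, sub_self]
      smul_mem' := by
        intro c v hv
        change δ (c • v) = 0
        rw [hδsmul, hv, mul_zero] }
  set x' : Module.End F V := (x : V →ₗ[F] V) with hx'
  have hpow : ∀ m : ℕ, x' ^ m = ((x ^ m : V ≃ₗ[F] V) : V →ₗ[F] V) := by
    intro m
    induction m with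
    | zero => rfl
    | succ m ih => rw [pow_succ, ih, pow_succ]; rfl
  have hxp' : x' ^ p = 1 := by rw [hpow, hxp]; rfl
  have hx1' : x' ≠ 1 := by
    intro h
    apply hx1
    ext v
    have := LinearMap.congr_fun h v
    exact this
  have hW := LieExceptional.SingerCentralizer.invariant_eq_bot_or_top hp hxp' hx1' hpn hpd W (by
    intro w hw
    change δ (x w) = 0
    rw [hδx]
    exact hw)
  rcases hW with h | h
  · exfalso
    apply hx1
    ext v
    have h1 : x v - v ∈ W := by
      change δ (x v - v) = 0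
      have h2 : δ (x v) = δ (x v - v) + δ v := by rw [← hδadd, sub_add_cancel]
      rw [hδx] at h2
      exact (right_eq_add.1 h2)
    rw [h, Submodule.mem_bot, sub_eq_zero] at h1
    exact h1
  · intro v
    have : v ∈ W := by rw [h]; exact Submodule.mem_top
    exact sub_eq_zero.1 this

end form

end Cfsg.Agent.H371.Alg
end

-- part: H371/PslComp
section
set_option linter.all false
open scoped Cfsg.Agent.FastGrp

-- part: H371/Psl
section
/-!
# Prime graph of `PSL_n(q)`: components (helper371)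
-/

set_option autoImplicit false

namespace Cfsg.Agent.H371.Psl

open Matrix

section block
variable {F : Type*} [Field F] {i j : ℕ}

/-- Block diagonal matrix with blocks `A`, `B`. -/
def mblk (A : Matrix (Fin i) (Fin i) F) (B : Matrix (Fin j) (Fin j) F) :
    Matrix (Fin (i + j)) (Fin (i + j)) F :=
  Matrix.reindex finSumFinEquiv finSumFinEquiv (Matrix.fromBlocks A 0 0 B)

theorem det_mblk (A : Matrix (Fin i) (Fin i) F) (B : Matrix (Fin j) (Fin j) F) :
    (mblk A B).det = A.det * B.det := by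
  rw [mblk, Matrix.det_reindex_self, Matrix.det_fromBlocks_zero₂₁]

theorem mblk_mul (A A' : Matrix (Fin i) (Fin i) F) (B B' : Matrix (Fin j) (Fin j) F) :
    mblk A B * mblk A' B' = mblk (A * A') (B * B') := by
  simp only [mblk, Matrix.reindex_apply]
  rw [Matrix.submatrix_mul_equiv, Matrix.fromBlocks_multiply]
  simp

theorem mblk_one : mblk (1 : Matrix (Fin i) (Fin i) F) (1 : Matrix (Fin j) (Fin j) F) = 1 := by
  simp only [mblk, Matrix.fromBlocks_one, Matrix.reindex_apply, Matrix.submatrix_one_equiv]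

theorem mblk_pow (A : Matrix (Fin i) (Fin i) F) (B : Matrix (Fin j) (Fin j) F) (k : ℕ) :
    mblk A B ^ k = mblk (A ^ k) (B ^ k) := by
  induction k with
  | zero => simp [mblk_one]
  | succ k ih => rw [pow_succ, ih, mblk_mul, pow_succ, pow_succ]

theorem mblk_smul_one (c : F) :
    mblk (c • (1 : Matrix (Fin i) (Fin i) F)) (c • (1 : Matrix (Fin j) (Fin j) F)) = c • 1 := by
  rw [← mblk_one, mblk, mblk]
  ext a b
  simp only [Matrix.reindex_apply, Matrix.submatrix_apply, Matrix.smul_apply]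
  rcases finSumFinEquiv.symm a with a' | a' <;> rcases finSumFinEquiv.symm b with b' | b' <;>
    simp [Matrix.fromBlocks]

theorem mblk_inj {A A' : Matrix (Fin i) (Fin i) F} {B B' : Matrix (Fin j) (Fin j) F}
    (h : mblk A B = mblk A' B') : A = A' ∧ B = B' := by
  have h1 : Matrix.fromBlocks A 0 0 B = Matrix.fromBlocks A' 0 0 B' :=
    (Matrix.reindex finSumFinEquiv finSumFinEquiv).injective h
  rw [Matrix.fromBlocks_inj] at h1
  exact ⟨h1.1, h1.2.2.2⟩

/-- Block diagonal element of `SL`. -/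
def slb (A : Matrix (Fin i) (Fin i) F) (B : Matrix (Fin j) (Fin j) F) (h : A.det * B.det = 1) :
    Matrix.SpecialLinearGroup (Fin (i + j)) F := ⟨mblk A B, by rw [det_mblk, h]⟩

theorem slb_commute {A A' : Matrix (Fin i) (Fin i) F} {B B' : Matrix (Fin j) (Fin j) F}
    (h : A.det * B.det = 1) (h' : A'.det * B'.det = 1) (hA : A * A' = A' * A)
    (hB : B * B' = B' * B) : Commute (slb A B h) (slb A' B' h') := by
  apply Subtype.ext
  change mblk A B * mblk A' B' = mblk A' B' * mblk A B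
  rw [mblk_mul, mblk_mul, hA, hB]

theorem slb_pow_eq_one {A : Matrix (Fin i) (Fin i) F} {B : Matrix (Fin j) (Fin j) F}
    (h : A.det * B.det = 1) {k : ℕ} (hA : A ^ k = 1) (hB : B ^ k = 1) : slb A B h ^ k = 1 := by
  have h1 : ((slb A B h ^ k : Matrix.SpecialLinearGroup (Fin (i + j)) F) :
      Matrix (Fin (i + j)) (Fin (i + j)) F) = 1 := by
    rw [Matrix.SpecialLinearGroup.coe_pow]
    change mblk A B ^ k = 1
    rw [mblk_pow, hA, hB, mblk_one]
  exact Subtype.ext h1

end block

section center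
variable {F : Type*} [Field F] {n : ℕ}

/-- The projection. -/
abbrev π (n : ℕ) (F : Type*) [Field F] :
    Matrix.SpecialLinearGroup (Fin n) F →* ProjectiveSpecialLinearGroup (Fin n) F :=
  QuotientGroup.mk' (Subgroup.center (Matrix.SpecialLinearGroup (Fin n) F))

theorem exists_scalar {A : Matrix.SpecialLinearGroup (Fin n) F} (h : π n F A = 1) :
    ∃ c : F, c ^ n = 1 ∧ (A : Matrix (Fin n) (Fin n) F) = c • 1 := by
  have h1 : A ∈ Subgroup.center (Matrix.SpecialLinearGroup (Fin n) F) := by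
    rwa [← QuotientGroup.eq_one_iff]
  obtain ⟨c, hc, hc'⟩ := Matrix.SpecialLinearGroup.mem_center_iff.mp h1
  refine ⟨c, ?_, ?_⟩
  · rw [Fintype.card_fin] at hc
    exact hc
  · rw [← hc', Matrix.scalar_apply, Matrix.smul_one_eq_diagonal]

end center

end Cfsg.Agent.H371.Psl
end

-- part: H371/PslComp
section
/-!
# Components of the prime graph of `PSL_n(q)`, `n ≥ 3` (helper371)
-/

set_option autoImplicit false

namespace Cfsg.Agent.H371.Psl

open Matrix Cfsg.Agent.Lib.Zsigmondy

variable {F : Type*} [Field F] [Finite F]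

theorem pow_card_sub_one {c : F} (hc : c ≠ 0) : c ^ (Nat.card F - 1) = 1 := by
  classical
  let _ : Fintype F := Fintype.ofFinite F
  rw [Nat.card_eq_fintype_card]
  exact FiniteField.pow_card_sub_one_eq_one c hc

theorem eq_one_of_pow {c : F} {a : ℕ} (ha : a.Prime) (hq : ¬ a ∣ Nat.card F - 1) (hc : c ^ a = 1) :
    c = 1 := by
  have hc0 : c ≠ 0 := by
    rintro rfl
    rw [zero_pow ha.ne_zero] at hc
    exact zero_ne_one hc
  have h1 := pow_card_sub_one hc0
  have h2 : c ^ (Nat.gcd a (Nat.card F - 1)) = 1 := pow_gcd_eq_one.2 ⟨hc, h1⟩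
  rwa [(Nat.Prime.coprime_iff_not_dvd ha).2 hq, pow_one] at h2

theorem exists_gl {k : ℕ} (hk : 1 ≤ k) {a b : ℕ} (ha : a ∣ Nat.card F ^ k - 1)
    (hb : b ∣ Nat.card F ^ k - 1) :
    ∃ A B : GL (Fin k) F, Commute A B ∧ orderOf A = a ∧ orderOf B = b := by
  have : NeZero k := ⟨by omega⟩
  obtain ⟨K, _, _, hK, f, hf⟩ := LieExceptional.CyclicSylow.exists_singer F k
  obtain ⟨g, hg⟩ := IsCyclic.exists_ofOrder_eq_natCard (α := Kˣ)
  have hcard : Nat.card Kˣ = Nat.card F ^ k - 1 := by rw [Nat.card_units, hK]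
  obtain ⟨x, -, hxa⟩ := exists_orderOf_of_dvd (x := g) (n := a) (isOfFinOrder_of_finite g)
    (by rw [hg, hcard]; exact ha)
  obtain ⟨y, -, hyb⟩ := exists_orderOf_of_dvd (x := g) (n := b) (isOfFinOrder_of_finite g)
    (by rw [hg, hcard]; exact hb)
  exact ⟨f x, f y, (Commute.all x y).map f, by rw [orderOf_injective f hf, hxa],
    by rw [orderOf_injective f hf, hyb]⟩

theorem exists_sl_pair {k : ℕ} (hk : 1 ≤ k) {a b : ℕ} (hap : a.Prime) (hbp : b.Prime)
    (ha : a ∣ Nat.card F ^ k - 1) (hb : b ∣ Nat.card F ^ k - 1) (ha1 : ¬ a ∣ Nat.card F - 1)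
    (hb1 : ¬ b ∣ Nat.card F - 1) :
    ∃ A B : Matrix (Fin k) (Fin k) F, A * B = B * A ∧ A ^ a = 1 ∧ B ^ b = 1 ∧ A ≠ 1 ∧ B ≠ 1 ∧
      A.det = 1 ∧ B.det = 1 := by
  obtain ⟨A, B, hc, hA, hB⟩ := exists_gl (F := F) hk ha hb
  have hA1 : (A : Matrix (Fin k) (Fin k) F) ^ a = 1 := by
    rw [← Units.val_pow_eq_pow_val, ← hA, pow_orderOf_eq_one, Units.val_one]
  have hB1 : (B : Matrix (Fin k) (Fin k) F) ^ b = 1 := by
    rw [← Units.val_pow_eq_pow_val, ← hB, pow_orderOf_eq_one, Units.val_one]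
  refine ⟨A, B, ?_, hA1, hB1, ?_, ?_, ?_, ?_⟩
  · rw [← Units.val_mul, hc.eq, Units.val_mul]
  · intro h
    have : A = 1 := Units.ext h
    rw [this, orderOf_one] at hA
    exact hap.one_lt.ne hA
  · intro h
    have : B = 1 := Units.ext h
    rw [this, orderOf_one] at hB
    exact hbp.one_lt.ne hB
  · apply eq_one_of_pow hap ha1
    rw [← Matrix.det_pow, hA1, Matrix.det_one]
  · apply eq_one_of_pow hbp hb1
    rw [← Matrix.det_pow, hB1, Matrix.det_one]

omit [Finite F] in
/-- An involution of determinant one. -/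
theorem exists_invol {j : ℕ} (hj : 2 ≤ j) :
    ∃ B : Matrix (Fin j) (Fin j) F, B.det = 1 ∧ B ^ 2 = 1 ∧ B ≠ 1 := by
  have h01 : (⟨0, by omega⟩ : Fin j) ≠ ⟨1, by omega⟩ := by
    intro h
    exact absurd (congrArg Fin.val h) (by simp)
  by_cases h2 : (2 : F) = 0
  · refine ⟨Matrix.transvection (⟨0, by omega⟩ : Fin j) ⟨1, by omega⟩ (1 : F), ?_, ?_, ?_⟩
    · exact Matrix.det_transvection_of_ne _ _ h01 1
    · rw [pow_two, Matrix.transvection_mul_transvection_same _ _ h01]
      rw [one_add_one_eq_two, h2, Matrix.transvection_zero]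
    · intro h
      have := congrFun (congrFun h ⟨0, by omega⟩) ⟨1, by omega⟩
      rw [Matrix.one_apply_ne h01] at this
      simp [Matrix.transvection, Matrix.one_apply_ne h01] at this
  · refine ⟨Matrix.diagonal (fun i : Fin j => if (i : ℕ) < 2 then (-1 : F) else 1), ?_, ?_, ?_⟩
    · rw [Matrix.det_diagonal]
      obtain ⟨m, rfl⟩ : ∃ m, j = 2 + m := ⟨j - 2, by omega⟩
      rw [Fin.prod_univ_add, Finset.prod_eq_one (s := Finset.univ) (f := fun i : Fin m =>
        if ((Fin.natAdd 2 i : Fin (2 + m)) : ℕ) < 2 then (-1 : F) else 1)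
        (fun i _ => by rw [if_neg]; simp; omega)]
      simp
    · rw [Matrix.diagonal_pow, ← Matrix.diagonal_one]
      congr 1
      ext i
      simp only [Pi.pow_apply]
      split_ifs <;> simp
    · intro h
      have := congrFun (congrFun h ⟨0, by omega⟩) ⟨0, by omega⟩
      simp only [Matrix.diagonal_apply_eq, Matrix.one_apply_eq] at this
      simp only [Nat.ofNat_pos, ↓reduceIte] at this
      apply h2
      linear_combination (-1 : F) * this

section adj
variable {n : ℕ}

omit [Finite F] in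
theorem pi_slb_ne_one {i j : ℕ} {A : Matrix (Fin i) (Fin i) F} {B : Matrix (Fin j) (Fin j) F}
    (h : A.det * B.det = 1) (hne : ∀ c : F, c ^ (i + j) = 1 → A = c • 1 → B ≠ c • 1) :
    π (i + j) F (slb A B h) ≠ 1 := by
  intro h1
  obtain ⟨c, hc, hc'⟩ := exists_scalar h1
  have h2 : mblk A B = mblk (c • (1 : Matrix (Fin i) (Fin i) F)) (c • (1 : Matrix (Fin j) (Fin j) F)) := by
    rw [mblk_smul_one]
    exact hc'
  obtain ⟨h3, h4⟩ := mblk_inj h2
  exact hne c hc h3 h4

omit [Finite F] in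
theorem smul_one_eq_one_iff {i : ℕ} (hi : 1 ≤ i) {c : F} :
    (1 : Matrix (Fin i) (Fin i) F) = c • 1 ↔ c = 1 := by
  constructor
  · intro h
    have := congrFun (congrFun h ⟨0, by omega⟩) ⟨0, by omega⟩
    rw [Matrix.smul_apply, Matrix.one_apply_eq, smul_eq_mul, mul_one] at this
    exact this.symm
  · rintro rfl
    rw [one_smul]

/-- `u ∣ q ^ k - 1` with `k ≤ n - 2`, `u ∤ q - 1`: `u` is adjacent to `2`. -/
theorem adj_two_of_le {u k : ℕ} (hu : u.Prime) (hu2 : u ≠ 2) (hk : 1 ≤ k) (hkn : k + 2 ≤ n)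
    (h1 : u ∣ Nat.card F ^ k - 1) (h2 : ¬ u ∣ Nat.card F - 1) :
    PAdj (ProjectiveSpecialLinearGroup (Fin n) F) 2 u := by
  obtain ⟨j, rfl⟩ : ∃ j, n = k + j := ⟨n - k, by omega⟩
  obtain ⟨A, -, -, hA, -, hA1, -, hAd, -⟩ := exists_sl_pair (F := F) hk hu hu h1 h1 h2 h2
  obtain ⟨B, hBd, hB2, hB1⟩ := exists_invol (F := F) (j := j) (by omega)
  have e1 : A.det * (1 : Matrix (Fin j) (Fin j) F).det = 1 := by rw [hAd, Matrix.det_one, one_mul]
  have e2 : (1 : Matrix (Fin k) (Fin k) F).det * B.det = 1 := by rw [hBd, Matrix.det_one, one_mul]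
  refine PAdj.symm (adj_of_hom (π (k + j) F) (slb_commute e1 e2 (by simp) (by simp)) hu
    Nat.prime_two hu2 (slb_pow_eq_one e1 hA (one_pow _)) (slb_pow_eq_one e2 (one_pow _) hB2) ?_ ?_)
  · apply pi_slb_ne_one
    intro c _ h3 h4
    rw [smul_one_eq_one_iff (by omega)] at h4
    rw [h4, one_smul] at h3
    exact hA1 h3
  · apply pi_slb_ne_one
    intro c _ h3 h4
    rw [smul_one_eq_one_iff (by omega)] at h3
    rw [h3, one_smul] at h4
    exact hB1 h4

/-- Two primes dividing `q ^ n - 1` but not `q - 1` are adjacent. -/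
theorem adj_top {a b : ℕ} (hn : 1 ≤ n) (hap : a.Prime) (hbp : b.Prime) (hab : a ≠ b)
    (ha : a ∣ Nat.card F ^ n - 1) (hb : b ∣ Nat.card F ^ n - 1) (ha1 : ¬ a ∣ Nat.card F - 1)
    (hb1 : ¬ b ∣ Nat.card F - 1) : PAdj (ProjectiveSpecialLinearGroup (Fin n) F) a b := by
  obtain ⟨A, B, hc, hA, hB, hA1, hB1, hAd, hBd⟩ := exists_sl_pair (F := F) hn hap hbp ha hb ha1 hb1
  have key : ∀ (C : Matrix.SpecialLinearGroup (Fin n) F) {c : ℕ} (_ : c.Prime)
      (_ : ¬ c ∣ Nat.card F - 1) (_ : (C : Matrix (Fin n) (Fin n) F) ^ c = 1)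
      (_ : (C : Matrix (Fin n) (Fin n) F) ≠ 1), π n F C ≠ 1 := by
    intro C c hc hc1 hCc hC1 h
    obtain ⟨d, -, hd⟩ := exists_scalar h
    have h1 : d ^ c = 1 := by
      rw [hd, smul_pow, one_pow] at hCc
      exact (smul_one_eq_one_iff (by omega)).1 hCc.symm
    rw [hd, eq_one_of_pow hc hc1 h1, one_smul] at hC1
    exact hC1 rfl
  obtain ⟨A', rfl⟩ : ∃ A' : Matrix.SpecialLinearGroup (Fin n) F,
    (A' : Matrix (Fin n) (Fin n) F) = A := ⟨⟨A, hAd⟩, rfl⟩
  obtain ⟨B', rfl⟩ : ∃ B' : Matrix.SpecialLinearGroup (Fin n) F,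
    (B' : Matrix (Fin n) (Fin n) F) = B := ⟨⟨B, hBd⟩, rfl⟩
  refine adj_of_hom (π n F) (x := A') (y := B') ?_ hap hbp hab ?_ ?_
    (key A' hap ha1 hA hA1) (key B' hbp hb1 hB hB1)
  · exact Subtype.ext hc
  · apply Subtype.ext
    change ((A' ^ a : Matrix.SpecialLinearGroup (Fin n) F) : Matrix (Fin n) (Fin n) F) = 1
    rw [Matrix.SpecialLinearGroup.coe_pow, hA]
  · apply Subtype.ext
    change ((B' ^ b : Matrix.SpecialLinearGroup (Fin n) F) : Matrix (Fin n) (Fin n) F) = 1
    rw [Matrix.SpecialLinearGroup.coe_pow, hB]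

/-- Two primes dividing `q ^ (n-1) - 1` but not `q - 1` are adjacent in `PSL_n(q)`. -/
theorem adj_sub {a b : ℕ} (hn : 1 ≤ n) (hap : a.Prime) (hbp : b.Prime) (hab : a ≠ b)
    (ha : a ∣ Nat.card F ^ n - 1) (hb : b ∣ Nat.card F ^ n - 1) (ha1 : ¬ a ∣ Nat.card F - 1)
    (hb1 : ¬ b ∣ Nat.card F - 1) : PAdj (ProjectiveSpecialLinearGroup (Fin (n + 1)) F) a b := by
  obtain ⟨A, B, hc, hA, hB, hA1, hB1, hAd, hBd⟩ := exists_sl_pair (F := F) hn hap hbp ha hb ha1 hb1
  have e1 : A.det * (1 : Matrix (Fin 1) (Fin 1) F).det = 1 := by rw [hAd, Matrix.det_one, one_mul]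
  have e2 : B.det * (1 : Matrix (Fin 1) (Fin 1) F).det = 1 := by rw [hBd, Matrix.det_one, one_mul]
  refine adj_of_hom (π (n + 1) F) (slb_commute e1 e2 hc (by simp)) hap
    hbp hab (slb_pow_eq_one e1 hA (one_pow _)) (slb_pow_eq_one e2 hB (one_pow _)) ?_ ?_
  · apply pi_slb_ne_one
    intro c _ h3 h4
    rw [smul_one_eq_one_iff (by omega)] at h4
    rw [h4, one_smul] at h3
    exact hA1 h3
  · apply pi_slb_ne_one
    intro c _ h3 h4
    rw [smul_one_eq_one_iff (by omega)] at h4
    rw [h4, one_smul] at h3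
    exact hB1 h3

/-- The scalars of `GL_n` inside `SL_{n+1}`: unless `c ^ (n+1) = 1` for all `c`, an odd prime dividing
`q ^ n - 1` but not `q - 1` is joined to `2`. -/
theorem conn_of_scalar {a : ℕ} (hn : 2 ≤ n) (hap : a.Prime)
    (ha : a ∣ Nat.card F ^ n - 1) (ha1 : ¬ a ∣ Nat.card F - 1) {c : F} (hc0 : c ≠ 0)
    (hc : c ^ (n + 1) ≠ 1) : PConn (ProjectiveSpecialLinearGroup (Fin (n + 1)) F) a 2 := by
  obtain ⟨A, -, -, hA, -, hA1, -, hAd, -⟩ :=
    exists_sl_pair (F := F) (k := n) (by omega) hap hap ha ha ha1 ha1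
  obtain ⟨B, hBd, hB2, hB1⟩ := exists_invol (F := F) (j := n) hn
  have e1 : A.det * (1 : Matrix (Fin 1) (Fin 1) F).det = 1 := by rw [hAd, Matrix.det_one, one_mul]
  have e2 : B.det * (1 : Matrix (Fin 1) (Fin 1) F).det = 1 := by rw [hBd, Matrix.det_one, one_mul]
  have e3 : (c • (1 : Matrix (Fin n) (Fin n) F)).det * ((c⁻¹ ^ n) • (1 : Matrix (Fin 1) (Fin 1) F)).det = 1 := by
    rw [Matrix.det_smul, Matrix.det_smul, Matrix.det_one, Matrix.det_one, Fintype.card_fin,
      Fintype.card_fin, mul_one, mul_one, pow_one, ← mul_pow, mul_inv_cancel₀ hc0, one_pow]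
  refine conn_of_hom (π (n + 1) F) (x := slb A 1 e1)
    (z := slb (c • (1 : Matrix (Fin n) (Fin n) F)) ((c⁻¹ ^ n) • (1 : Matrix (Fin 1) (Fin 1) F)) e3)
    (t := slb B 1 e2) (slb_commute e1 e3 (by simp) (by simp)) (slb_commute e3 e2 (by simp) (by simp))
    hap Nat.prime_two (slb_pow_eq_one e1 hA (one_pow _)) (slb_pow_eq_one e2 hB2 (one_pow _)) ?_ ?_ ?_
  · apply pi_slb_ne_one
    intro c _ h3 h4
    rw [smul_one_eq_one_iff (by omega)] at h4
    rw [h4, one_smul] at h3
    exact hA1 h3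
  · apply pi_slb_ne_one
    intro d hd h3 h4
    have h5 : c = d := by
      have := congrFun (congrFun h3 ⟨0, by omega⟩) ⟨0, by omega⟩
      simpa using this
    rw [← h5] at hd
    exact hc hd
  · apply pi_slb_ne_one
    intro c _ h3 h4
    rw [smul_one_eq_one_iff (by omega)] at h4
    rw [h4, one_smul] at h3
    exact hB1 h3

/-- Case `q + 1 = 2 ^ e`, `n` even. -/
theorem adj_two_of_mersenne {b e : ℕ} (hn : 1 ≤ n) (hev : 2 ∣ n) (he : 2 ≤ e)
    (hq : Nat.card F + 1 = 2 ^ e) (hbp : b.Prime) (hb2 : b ≠ 2)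
    (hb : b ∣ Nat.card F ^ n - 1) (hb1 : ¬ b ∣ Nat.card F - 1) :
    PAdj (ProjectiveSpecialLinearGroup (Fin n) F) 2 b := by
  have hq1 : 1 < Nat.card F := Finite.one_lt_card
  set q := Nat.card F with hqdef
  have hgcd : ∀ m, 1 ≤ m → Nat.gcd (2 ^ m) (q - 1) = 2 := by
    intro m hm
    have h4 : 4 ∣ 2 ^ e := by
      obtain ⟨t, rfl⟩ := Nat.exists_eq_add_of_le he
      rw [pow_add]; exact Dvd.intro _ rfl
    have h1 : 2 ∣ q - 1 := by omega
    have h2 : ¬ 4 ∣ q - 1 := by omega
    have h3 : Nat.gcd (2 ^ m) (q - 1) ∣ 2 ^ m := Nat.gcd_dvd_left _ _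
    obtain ⟨t, ht, hte⟩ := (Nat.dvd_prime_pow Nat.prime_two).1 h3
    have h5 : 2 ∣ Nat.gcd (2 ^ m) (q - 1) := Nat.dvd_gcd (dvd_pow_self 2 (by omega)) h1
    have h6 : Nat.gcd (2 ^ m) (q - 1) ∣ q - 1 := Nat.gcd_dvd_right _ _
    rw [hte] at h5 h6 ⊢
    rcases t with _ | _ | t
    · simp at h5
    · rfl
    · exfalso
      apply h2
      have h7 : 2 ^ 2 ∣ 2 ^ (t + 1 + 1) := pow_dvd_pow 2 (by omega)
      exact Dvd.dvd.trans h7 h6
  have hdiv : 2 ^ (e + 1) ∣ q ^ n - 1 := by
    have h1 : q ^ 2 - 1 ∣ q ^ n - 1 := by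
      obtain ⟨m, rfl⟩ := hev
      rw [pow_mul]
      exact Nat.sub_one_dvd_pow_sub_one _ _
    refine Dvd.dvd.trans ?_ h1
    have h2 : q ^ 2 - 1 = (q + 1) * (q - 1) := by
      have := Nat.sq_sub_sq q 1
      simpa using this
    rw [h2, hq, pow_succ]
    refine Nat.mul_dvd_mul_left _ ?_
    have h4 : 4 ∣ 2 ^ e := by
      obtain ⟨t, rfl⟩ := Nat.exists_eq_add_of_le he
      rw [pow_add]; exact Dvd.intro _ rfl
    omega
  obtain ⟨Y, X, hc, hY, hX⟩ := exists_gl (F := F) hn hdiv hb
  have hunit : ∀ (c : F) (m : ℕ), 1 ≤ m → c ^ 2 ^ m = 1 → c ^ 2 = 1 := by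
    intro c m hm hcm
    have hc0 : c ≠ 0 := by
      rintro rfl
      rw [zero_pow (by positivity)] at hcm
      exact zero_ne_one hcm
    have h2 : c ^ (Nat.gcd (2 ^ m) (q - 1)) = 1 := pow_gcd_eq_one.2 ⟨hcm, pow_card_sub_one hc0⟩
    rwa [hgcd m hm] at h2
  have hYo : (Y : Matrix (Fin n) (Fin n) F) ^ 2 ^ (e + 1) = 1 := by
    rw [← Units.val_pow_eq_pow_val, ← hY, pow_orderOf_eq_one, Units.val_one]
  have hXo : (X : Matrix (Fin n) (Fin n) F) ^ b = 1 := by
    rw [← Units.val_pow_eq_pow_val, ← hX, pow_orderOf_eq_one, Units.val_one]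
  have hYd : ((Y : Matrix (Fin n) (Fin n) F) ^ 2).det = 1 := by
    rw [Matrix.det_pow]
    refine hunit _ (e + 1) (by omega) ?_
    rw [← Matrix.det_pow, hYo, Matrix.det_one]
  have hXd : (X : Matrix (Fin n) (Fin n) F).det = 1 := by
    apply eq_one_of_pow hbp hb1
    rw [← Matrix.det_pow, hXo, Matrix.det_one]
  obtain ⟨y, hy⟩ : ∃ y : Matrix.SpecialLinearGroup (Fin n) F,
    (y : Matrix (Fin n) (Fin n) F) = (Y : Matrix (Fin n) (Fin n) F) ^ 2 := ⟨⟨_, hYd⟩, rfl⟩
  obtain ⟨x, hx⟩ : ∃ x : Matrix.SpecialLinearGroup (Fin n) F,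
    (x : Matrix (Fin n) (Fin n) F) = (X : Matrix (Fin n) (Fin n) F) := ⟨⟨_, hXd⟩, rfl⟩
  have hxy : Commute y x := by
    apply Subtype.ext
    change (y : Matrix (Fin n) (Fin n) F) * (x : Matrix (Fin n) (Fin n) F)
      = (x : Matrix (Fin n) (Fin n) F) * (y : Matrix (Fin n) (Fin n) F)
    rw [hy, hx]
    have : Commute (Y : Matrix (Fin n) (Fin n) F) (X : Matrix (Fin n) (Fin n) F) := by
      rw [commute_iff_eq, ← Units.val_mul, hc.eq, Units.val_mul]
    exact (this.pow_left 2).eq
  have hyo : y ^ 2 ^ e = 1 := by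
    apply Subtype.ext
    change ((y ^ 2 ^ e : Matrix.SpecialLinearGroup (Fin n) F) : Matrix (Fin n) (Fin n) F) = 1
    rw [Matrix.SpecialLinearGroup.coe_pow, hy, ← pow_mul, ← pow_succ', hYo]
  have hxo : x ^ b = 1 := by
    apply Subtype.ext
    change ((x ^ b : Matrix.SpecialLinearGroup (Fin n) F) : Matrix (Fin n) (Fin n) F) = 1
    rw [Matrix.SpecialLinearGroup.coe_pow, hx, hXo]
  have hy1 : π n F y ≠ 1 := by
    intro h
    obtain ⟨c, -, hc'⟩ := exists_scalar h
    have h1 : c ^ 2 ^ e = 1 := by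
      have : ((y ^ 2 ^ e : Matrix.SpecialLinearGroup (Fin n) F) : Matrix (Fin n) (Fin n) F) = 1 := by
        rw [hyo]; rfl
      rw [Matrix.SpecialLinearGroup.coe_pow, hc', smul_pow, one_pow] at this
      exact (smul_one_eq_one_iff hn).1 this.symm
    have h2 := hunit c e (by omega) h1
    have h3 : (Y : Matrix (Fin n) (Fin n) F) ^ 4 = 1 := by
      have : (4 : ℕ) = 2 * 2 := rfl
      rw [this, pow_mul, ← hy, hc', smul_pow, one_pow, h2, one_smul]
    have h4 : Y ^ 4 = 1 := Units.ext (by rw [Units.val_pow_eq_pow_val, h3, Units.val_one])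
    have h5 := orderOf_dvd_of_pow_eq_one h4
    rw [hY] at h5
    have h6 : 2 ^ 3 ∣ 4 := (pow_dvd_pow 2 (by omega)).trans h5
    omega
  have hx1 : π n F x ≠ 1 := by
    intro h
    obtain ⟨c, -, hc'⟩ := exists_scalar h
    have h1 : c ^ b = 1 := by
      have : ((x ^ b : Matrix.SpecialLinearGroup (Fin n) F) : Matrix (Fin n) (Fin n) F) = 1 := by
        rw [hxo]; rfl
      rw [Matrix.SpecialLinearGroup.coe_pow, hc', smul_pow, one_pow] at this
      exact (smul_one_eq_one_iff hn).1 this.symm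
    have h2 := eq_one_of_pow hbp hb1 h1
    rw [h2, one_smul, hx] at hc'
    have : X = 1 := Units.ext hc'
    rw [this, orderOf_one] at hX
    exact hbp.one_lt.ne hX
  refine adj_of_commute (hxy.map (π n F)) Nat.prime_two hbp hb2.symm ?_
    (dvd_orderOf_of_pow hbp hx1 (by rw [← map_pow, hxo, map_one]))
  have h7 : orderOf (π n F y) ∣ 2 ^ e := orderOf_dvd_of_pow_eq_one (by rw [← map_pow, hyo, map_one])
  obtain ⟨t, ht, hte⟩ := (Nat.dvd_prime_pow Nat.prime_two).1 h7
  rw [hte]
  rcases t with _ | t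
  · rw [pow_zero, orderOf_eq_one_iff] at hte
    exact absurd hte hy1
  · exact dvd_pow_self 2 (by omega)

end adj

end Cfsg.Agent.H371.Psl
end

private theorem dce_bde5e5a46212 : _root_.True := by
  try have : _root_.True := by simp only [_root_.Cfsg.Agent.H371.Psl.mblk.eq_1]
  exact _root_.True.intro
end

-- part: H371/PslThree
section
set_option linter.all false
open scoped Cfsg.Agent.FastGrp

/-!
# The prime graph of `PSL_n(q)`, `n ≥ 3`, has at most two components, except for `PSL_3(2)`, `PSL_3(4)`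
(helper371)
-/

set_option autoImplicit false

namespace Cfsg.Agent.H371.Psl

open Matrix Cfsg.Agent.Lib.Zsigmondy

section unip
variable {F : Type*} [Field F] {n : ℕ}

/-- the characteristic (if odd) is adjacent to 2 -/
theorem adj_two_char [Finite F] (hn : 3 ≤ n) {p : ℕ} (hp : p.Prime) (hp2 : p ≠ 2)
    (hpF : CharP F p) : PAdj (ProjectiveSpecialLinearGroup (Fin n) F) 2 p := by
  have h2 : (2 : F) ≠ 0 := by
    intro h
    have h1 := (CharP.cast_eq_zero_iff F p 2).1 (by exact_mod_cast h)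
    exact hp2 ((Nat.prime_dvd_prime_iff_eq hp Nat.prime_two).1 h1)
  obtain ⟨j, rfl⟩ : ∃ j, n = 2 + j := ⟨n - 2, by omega⟩
  have h01 : (0 : Fin 2) ≠ 1 := by decide
  set T : Matrix (Fin 2) (Fin 2) F := Matrix.transvection 0 1 (1 : F) with hT
  have hTd : T.det = 1 := Matrix.det_transvection_of_ne _ _ h01 1
  have hTp : ∀ m : ℕ, T ^ m = Matrix.transvection 0 1 (m : F) := by
    intro m
    induction m with
    | zero => simp
    | succ m ih =>
      rw [pow_succ, ih, hT, Matrix.transvection_mul_transvection_same _ _ h01]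
      push_cast
      rfl
  have hT1 : T ≠ 1 := by
    intro h
    have := congrFun (congrFun h 0) 1
    rw [Matrix.one_apply_ne h01, hT] at this
    simp [Matrix.transvection] at this
  have hnd : (-1 : Matrix (Fin 2) (Fin 2) F).det = 1 := by
    rw [Matrix.det_neg, Matrix.det_one, Fintype.card_fin]; norm_num
  have e1 : T.det * (1 : Matrix (Fin j) (Fin j) F).det = 1 := by rw [hTd, Matrix.det_one, one_mul]
  have e2 : (-1 : Matrix (Fin 2) (Fin 2) F).det * (1 : Matrix (Fin j) (Fin j) F).det = 1 := by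
    rw [hnd, Matrix.det_one, one_mul]
  refine PAdj.symm (adj_of_hom (π (2 + j) F) (slb_commute e1 e2 (by simp) (by simp)) hp
    Nat.prime_two hp2 (slb_pow_eq_one e1 ?_ (one_pow _)) (slb_pow_eq_one e2 (by simp) (one_pow _)) ?_ ?_)
  · rw [hTp, CharP.cast_eq_zero, Matrix.transvection_zero]
  · apply pi_slb_ne_one
    intro c _ h3 h4
    rw [smul_one_eq_one_iff (by omega)] at h4
    rw [h4, one_smul] at h3
    exact hT1 h3
  · apply pi_slb_ne_one
    intro c _ h3 h4
    rw [smul_one_eq_one_iff (by omega)] at h4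
    rw [h4, one_smul] at h3
    have := congrFun (congrFun h3 0) 0
    rw [Matrix.neg_apply, Matrix.one_apply_eq] at this
    apply h2
    linear_combination (-1 : F) * this

/-- diagonal matrix with entries `c, c⁻¹` -/
def dg (c : F) : Matrix (Fin 2) (Fin 2) F := Matrix.diagonal ![c, c⁻¹]

theorem det_dg {c : F} (hc : c ≠ 0) : (dg c).det = 1 := by
  rw [dg, Matrix.det_diagonal, Fin.prod_univ_two]
  simp [hc]

theorem dg_pow {c : F} {a : ℕ} (h : c ^ a = 1) : dg c ^ a = 1 := by
  rw [dg, Matrix.diagonal_pow, ← Matrix.diagonal_one]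
  congr 1
  ext i
  fin_cases i <;> simp [h]

theorem dg_ne_one {c : F} (h : c ≠ 1) : dg c ≠ 1 := by
  intro h1
  have := congrFun (congrFun h1 0) 0
  rw [dg, Matrix.diagonal_apply_eq, Matrix.one_apply_eq] at this
  exact h this

theorem exists_unit [Finite F] {a : ℕ} (ha : a.Prime) (h : a ∣ Nat.card F - 1) :
    ∃ c : F, c ≠ 0 ∧ c ≠ 1 ∧ c ^ a = 1 := by
  have := Fact.mk ha
  obtain ⟨c, hc⟩ := exists_prime_orderOf_dvd_card' (G := Fˣ) a (by rw [Nat.card_units]; exact h)
  refine ⟨c, c.ne_zero, ?_, ?_⟩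
  · intro h1
    have : c = 1 := Units.ext h1
    rw [this, orderOf_one] at hc
    exact ha.one_lt.ne hc
  · rw [← Units.val_pow_eq_pow_val, ← hc, pow_orderOf_eq_one, Units.val_one]

/-- an odd prime divisor of `q - 1` is adjacent to `2` for `n ≥ 4`. -/
theorem adj_two_torus_even [Finite F] (hn : 4 ≤ n) {a : ℕ} (ha : a.Prime) (ha2 : a ≠ 2)
    (h : a ∣ Nat.card F - 1) : PAdj (ProjectiveSpecialLinearGroup (Fin n) F) 2 a := by
  obtain ⟨j, rfl⟩ : ∃ j, n = 2 + j := ⟨n - 2, by omega⟩
  obtain ⟨c, hc0, hc1, hca⟩ := exists_unit ha h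
  obtain ⟨B, hBd, hB2, hB1⟩ := exists_invol (F := F) (j := j) (by omega)
  have e1 : (dg c).det * (1 : Matrix (Fin j) (Fin j) F).det = 1 := by
    rw [det_dg hc0, Matrix.det_one, one_mul]
  have e2 : (1 : Matrix (Fin 2) (Fin 2) F).det * B.det = 1 := by rw [hBd, Matrix.det_one, one_mul]
  refine PAdj.symm (adj_of_hom (π (2 + j) F) (slb_commute e1 e2 (by simp) (by simp)) ha
    Nat.prime_two ha2 (slb_pow_eq_one e1 (dg_pow hca) (one_pow _))
    (slb_pow_eq_one e2 (one_pow _) hB2) ?_ ?_)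
  · apply pi_slb_ne_one
    intro d _ h3 h4
    rw [smul_one_eq_one_iff (by omega)] at h4
    rw [h4, one_smul] at h3
    exact dg_ne_one hc1 h3
  · apply pi_slb_ne_one
    intro c _ h3 h4
    rw [smul_one_eq_one_iff (by omega)] at h3
    rw [h3, one_smul] at h4
    exact hB1 h4

/-- an odd prime divisor of `q - 1` is adjacent to `2` for `n ≥ 3`, `q` odd. -/
theorem adj_two_torus_odd [Finite F] (hn : 3 ≤ n) (h2 : (2 : F) ≠ 0) {a : ℕ} (ha : a.Prime)
    (ha2 : a ≠ 2) (h : a ∣ Nat.card F - 1) : PAdj (ProjectiveSpecialLinearGroup (Fin n) F) 2 a := by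
  obtain ⟨j, rfl⟩ : ∃ j, n = 2 + j := ⟨n - 2, by omega⟩
  obtain ⟨c, hc0, hc1, hca⟩ := exists_unit ha h
  have hnd : (-1 : Matrix (Fin 2) (Fin 2) F).det = 1 := by
    rw [Matrix.det_neg, Matrix.det_one, Fintype.card_fin]; norm_num
  have e1 : (dg c).det * (1 : Matrix (Fin j) (Fin j) F).det = 1 := by
    rw [det_dg hc0, Matrix.det_one, one_mul]
  have e2 : (-1 : Matrix (Fin 2) (Fin 2) F).det * (1 : Matrix (Fin j) (Fin j) F).det = 1 := by
    rw [hnd, Matrix.det_one, one_mul]
  refine PAdj.symm (adj_of_hom (π (2 + j) F) (slb_commute e1 e2 (by simp) (by simp)) ha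
    Nat.prime_two ha2 (slb_pow_eq_one e1 (dg_pow hca) (one_pow _))
    (slb_pow_eq_one e2 (by simp) (one_pow _)) ?_ ?_)
  · apply pi_slb_ne_one
    intro d _ h3 h4
    rw [smul_one_eq_one_iff (by omega)] at h4
    rw [h4, one_smul] at h3
    exact dg_ne_one hc1 h3
  · apply pi_slb_ne_one
    intro c _ h3 h4
    rw [smul_one_eq_one_iff (by omega)] at h4
    rw [h4, one_smul] at h3
    have := congrFun (congrFun h3 0) 0
    rw [Matrix.neg_apply, Matrix.one_apply_eq] at this
    apply h2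
    linear_combination (-1 : F) * this

/-- `n = 3`: an odd prime divisor of `q - 1` is joined to `2` as soon as some `d` has `d ^ 3 ≠ 1`. -/
theorem conn_two_torus_three [Finite F] {a : ℕ} (ha : a.Prime)
    (h : a ∣ Nat.card F - 1) {d : F} (hd0 : d ≠ 0) (hd : d ^ 3 ≠ 1) :
    PConn (ProjectiveSpecialLinearGroup (Fin 3) F) a 2 := by
  obtain ⟨c, hc0, hc1, hca⟩ := exists_unit ha h
  obtain ⟨B, hBd, hB2, hB1⟩ := exists_invol (F := F) (j := 2) le_rfl
  have e1 : (dg c).det * (1 : Matrix (Fin 1) (Fin 1) F).det = 1 := by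
    rw [det_dg hc0, Matrix.det_one, one_mul]
  have e2 : B.det * (1 : Matrix (Fin 1) (Fin 1) F).det = 1 := by rw [hBd, Matrix.det_one, one_mul]
  have e3 : (d • (1 : Matrix (Fin 2) (Fin 2) F)).det * ((d⁻¹ ^ 2) • (1 : Matrix (Fin 1) (Fin 1) F)).det = 1 := by
    rw [Matrix.det_smul, Matrix.det_smul, Matrix.det_one, Matrix.det_one, Fintype.card_fin,
      Fintype.card_fin, mul_one, mul_one, pow_one, ← mul_pow, mul_inv_cancel₀ hd0, one_pow]
  refine conn_of_hom (π (2 + 1) F) (x := slb (dg c) 1 e1)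
    (z := slb (d • (1 : Matrix (Fin 2) (Fin 2) F)) ((d⁻¹ ^ 2) • (1 : Matrix (Fin 1) (Fin 1) F)) e3)
    (t := slb B 1 e2) (slb_commute e1 e3 (by simp) (by simp)) (slb_commute e3 e2 (by simp) (by simp))
    ha Nat.prime_two (slb_pow_eq_one e1 (dg_pow hca) (one_pow _))
    (slb_pow_eq_one e2 hB2 (one_pow _)) ?_ ?_ ?_
  · apply pi_slb_ne_one
    intro c _ h3 h4
    rw [smul_one_eq_one_iff (by omega)] at h4
    rw [h4, one_smul] at h3
    exact dg_ne_one hc1 h3
  · apply pi_slb_ne_one
    intro e he h3 h4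
    have h5 : d = e := by
      have := congrFun (congrFun h3 0) 0
      simpa using this
    rw [← h5] at he
    exact hd he
  · apply pi_slb_ne_one
    intro c _ h3 h4
    rw [smul_one_eq_one_iff (by omega)] at h4
    rw [h4, one_smul] at h3
    exact hB1 h3

end unip

section main
variable {F : Type*} [Field F] [Finite F] {n : ℕ}

/-- Prime divisors of the order. -/
theorem dvd_card {a : ℕ} (hn : 2 ≤ n) (ha : a.Prime)
    (h : a ∣ Nat.card (ProjectiveSpecialLinearGroup (Fin n) F)) :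
    a ∣ Nat.card F ∨ ∃ k, 1 ≤ k ∧ k ≤ n ∧ a ∣ Nat.card F ^ k - 1 := by
  classical
  let _ : Fintype F := Fintype.ofFinite F
  have h1 := S0243.result (F := F) (q := Nat.card F) (Nat.card_eq_fintype_card).symm n hn
  have h2 : a ∣ ∏ i : Fin n, (Nat.card F ^ n - Nat.card F ^ (i : ℕ)) := by
    rw [← h1]
    exact (h.mul_left _).mul_left _
  obtain ⟨i, -, hi⟩ := (Prime.dvd_finsetProd_iff ha.prime _).1 h2
  have h3 : Nat.card F ^ n - Nat.card F ^ (i : ℕ) = Nat.card F ^ (i : ℕ) * (Nat.card F ^ (n - i) - 1) := by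
    rw [Nat.mul_sub, mul_one, ← pow_add]
    congr 2
    have := i.2
    omega
  rw [h3] at hi
  rcases (Nat.Prime.dvd_mul ha).1 hi with h4 | h4
  · exact Or.inl (ha.dvd_of_dvd_pow h4)
  · exact Or.inr ⟨n - i, by have := i.2; omega, by omega, h4⟩

omit [Finite F] in
theorem two_ne_zero_of_odd {p : ℕ} (hp : p.Prime) (hp2 : p ≠ 2) (hpF : CharP F p) : (2 : F) ≠ 0 := by
  intro h
  have h1 := (CharP.cast_eq_zero_iff F p 2).1 (by exact_mod_cast h)
  exact hp2 ((Nat.prime_dvd_prime_iff_eq hp Nat.prime_two).1 h1)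

/-- `q - 1 ∣ m` if all units have `c ^ m = 1`. -/
theorem sub_one_dvd_of_forall {m : ℕ} (h : ∀ c : F, c ≠ 0 → c ^ m = 1) : Nat.card F - 1 ∣ m := by
  obtain ⟨g, hg⟩ := IsCyclic.exists_ofOrder_eq_natCard (α := Fˣ)
  rw [Nat.card_units] at hg
  rw [← hg]
  apply orderOf_dvd_of_pow_eq_one
  apply Units.ext
  rw [Units.val_pow_eq_pow_val, h _ g.ne_zero, Units.val_one]

/-- odd primes dividing `q` or `q - 1` are joined to `2`, unless `n = 3`, `q ∈ {2, 4}`. -/
theorem conn_two_small {a : ℕ} (hn : 3 ≤ n) (ha : a.Prime) (ha2 : a ≠ 2)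
    (h : a ∣ Nat.card F ∨ a ∣ Nat.card F - 1) :
    PConn (ProjectiveSpecialLinearGroup (Fin n) F) a 2 ∨ (n = 3 ∧ (Nat.card F = 2 ∨ Nat.card F = 4)) := by
  obtain ⟨p, hpF⟩ := CharP.exists F
  have hp : p.Prime := CharP.char_is_prime F p
  rcases h with h | h
  · let _ : Fintype F := Fintype.ofFinite F
    obtain ⟨m, hm, hm'⟩ := FiniteField.card F p
    rw [Nat.card_eq_fintype_card, hm'] at h
    have : a = p := (Nat.prime_dvd_prime_iff_eq ha hp).1 (ha.dvd_of_dvd_pow h)
    subst this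
    exact Or.inl (adj_two_char hn hp ha2 hpF).symm.conn
  · by_cases hp2 : p = 2
    · rcases Nat.lt_or_ge n 4 with h4 | h4
      · obtain rfl : n = 3 := by omega
        by_cases hd : ∀ d : F, d ≠ 0 → d ^ 3 = 1
        · right
          refine ⟨rfl, ?_⟩
          have h5 := sub_one_dvd_of_forall hd
          have h6 : 1 < Nat.card F := Finite.one_lt_card
          rcases (Nat.dvd_prime Nat.prime_three).1 h5 with h7 | h7
          · left; omega
          · right; omega
        · push Not at hd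
          obtain ⟨d, hd0, hd3⟩ := hd
          exact Or.inl (conn_two_torus_three ha h hd0 hd3)
      · exact Or.inl (adj_two_torus_even h4 ha ha2 h).symm.conn
    · exact Or.inl (adj_two_torus_odd hn (two_ne_zero_of_odd hp hp2 hpF) ha ha2 h).symm.conn

/-- Class of an odd prime divisor of the order. -/
theorem cases_odd {a : ℕ} (hn : 3 ≤ n) (ha : a.Prime) (ha2 : a ≠ 2)
    (h : a ∣ Nat.card (ProjectiveSpecialLinearGroup (Fin n) F)) :
    PConn (ProjectiveSpecialLinearGroup (Fin n) F) a 2 ∨ (n = 3 ∧ (Nat.card F = 2 ∨ Nat.card F = 4)) ∨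
      (¬ a ∣ Nat.card F - 1 ∧ a ∣ Nat.card F ^ (n - 1) - 1) ∨
      (¬ a ∣ Nat.card F - 1 ∧ a ∣ Nat.card F ^ n - 1) := by
  rcases dvd_card (by omega) ha h with h1 | ⟨k, hk1, hkn, hk⟩
  · rcases conn_two_small hn ha ha2 (Or.inl h1) with h2 | h2
    · exact Or.inl h2
    · exact Or.inr (Or.inl h2)
  by_cases h1 : a ∣ Nat.card F - 1
  · rcases conn_two_small hn ha ha2 (Or.inr h1) with h2 | h2
    · exact Or.inl h2
    · exact Or.inr (Or.inl h2)
  · rcases Nat.lt_or_ge (k + 1) n with h3 | h3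
    · exact Or.inl (adj_two_of_le ha ha2 hk1 (by omega) hk h1).symm.conn
    · rcases Nat.lt_or_ge k n with h4 | h4
      · obtain rfl : k = n - 1 := by omega
        exact Or.inr (Or.inr (Or.inl ⟨h1, hk⟩))
      · obtain rfl : k = n := by omega
        exact Or.inr (Or.inr (Or.inr ⟨h1, hk⟩))

theorem dvd_pow_sub_one_of_dvd {q s k m : ℕ} (h : s ∣ q ^ k - 1) (hkm : k ∣ m) : s ∣ q ^ m - 1 := by
  obtain ⟨t, rfl⟩ := hkm
  rw [pow_mul]
  exact h.trans (Nat.sub_one_dvd_pow_sub_one _ _)

theorem mixed {a b : ℕ} (hn : 3 ≤ n) (ha : a.Prime) (hb : b.Prime) (hb2 : b ≠ 2)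
    (ha1 : ¬ a ∣ Nat.card F - 1) (hb1 : ¬ b ∣ Nat.card F - 1)
    (han : a ∣ Nat.card F ^ (n - 1) - 1) (hbn : b ∣ Nat.card F ^ n - 1) :
    PConn (ProjectiveSpecialLinearGroup (Fin n) F) a 2 ∨ PConn (ProjectiveSpecialLinearGroup (Fin n) F) b 2 ∨
      (n = 3 ∧ (Nat.card F = 2 ∨ Nat.card F = 4)) := by
  have hq : 1 < Nat.card F := Finite.one_lt_card
  set q := Nat.card F with hqdef
  by_cases hc : ∀ c : F, c ≠ 0 → c ^ n = 1
  swap
  · left
    push Not at hc
    obtain ⟨c, hc0, hcn⟩ := hc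
    obtain ⟨m, rfl⟩ : ∃ m, n = m + 1 := ⟨n - 1, by omega⟩
    exact conn_of_scalar (by omega) ha han ha1 hc0 hcn
  have hqn : q - 1 ∣ n := sub_one_dvd_of_forall hc
  -- n - 1 is prime
  by_cases hp1 : (n - 1).Prime
  swap
  · left
    set k := (n - 1).minFac with hk
    have hkp : k.Prime := Nat.minFac_prime (by omega)
    have hkd : k ∣ n - 1 := Nat.minFac_dvd _
    have hkn : k < n - 1 := by
      rcases lt_or_eq_of_le (Nat.le_of_dvd (by omega) hkd) with h | h
      · exact h
      · rw [← h] at hp1; exact absurd hkp hp1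
    obtain ⟨s, hs, hsm, hsk, -⟩ := exists_primitive (a := q) (n := k) (by omega) hkp.two_le (by
      rintro h2 ⟨e, he⟩
      -- n - 1 even, so n odd, so q - 1 odd, so q even
      rw [h2] at hkd
      have h3 : ¬ 2 ∣ q - 1 := by
        intro h4
        have := h4.trans hqn
        omega
      have h4 : e ≠ 0 := by
        rintro rfl
        rw [pow_zero] at he
        omega
      have h5 : 2 ∣ 2 ^ e := dvd_pow_self 2 h4
      omega) (by
      rintro ⟨-, h6⟩
      rw [h6] at hkp
      exact absurd hkp (by norm_num))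
    have hs1 : ¬ s ∣ q - 1 := by
      intro h
      have h1 := (hsm 1).1 (by simpa using h)
      exact hkp.one_lt.ne' (Nat.dvd_one.1 h1)
    have hs2 : s ≠ 2 := by
      rintro rfl
      have := Nat.le_of_dvd (by norm_num) hsk
      have := hkp.two_le
      omega
    have hsk' : s ∣ q ^ k - 1 := (hsm k).2 dvd_rfl
    have h2 : PConn (ProjectiveSpecialLinearGroup (Fin n) F) s 2 :=
      (adj_two_of_le hs hs2 hkp.pos (by omega) hsk' hs1).symm.conn
    rcases eq_or_ne a s with has | has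
    · rw [has]; exact h2
    · obtain ⟨m, rfl⟩ : ∃ m, n = m + 1 := ⟨n - 1, by omega⟩
      exact (PAdj.conn (adj_sub (by omega) ha hs has han (dvd_pow_sub_one_of_dvd hsk' hkd) ha1 hs1)).trans h2
  by_cases hp2 : n.Prime
  swap
  · right; left
    set k := n.minFac with hk
    have hkp : k.Prime := Nat.minFac_prime (by omega)
    have hkd : k ∣ n := Nat.minFac_dvd _
    have hkn : k < n := by
      rcases lt_or_eq_of_le (Nat.le_of_dvd (by omega) hkd) with h | h
      · exact h
      · rw [← h] at hp2; exact absurd hkp hp2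
    have hkn2 : k + 2 ≤ n := by
      obtain ⟨t, ht⟩ := hkd
      have h2k := hkp.two_le
      have ht2 : 2 ≤ t := by
        by_contra hcon
        have : t = 0 ∨ t = 1 := by omega
        rcases this with rfl | rfl <;> omega
      nlinarith
    by_cases hM : k = 2 ∧ ∃ e, q + 1 = 2 ^ e
    · obtain ⟨h2, e, he⟩ := hM
      have he2 : 2 ≤ e := by
        by_contra hcon
        have : e = 0 ∨ e = 1 := by omega
        rcases this with rfl | rfl
        · rw [pow_zero] at he; omega
        · rw [pow_one] at he; omega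
      rw [h2] at hkd
      exact (adj_two_of_mersenne (by omega) hkd he2 he hb hb2 hbn hb1).symm.conn
    obtain ⟨s, hs, hsm, hsk, -⟩ := exists_primitive (a := q) (n := k) (by omega) hkp.two_le
      (fun h2 he => hM ⟨h2, he⟩) (by
      rintro ⟨-, h6⟩
      rw [h6] at hkp
      exact absurd hkp (by norm_num))
    have hs1 : ¬ s ∣ q - 1 := by
      intro h
      have h1 := (hsm 1).1 (by simpa using h)
      exact hkp.one_lt.ne' (Nat.dvd_one.1 h1)
    have hs2 : s ≠ 2 := by
      rintro rfl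
      have := Nat.le_of_dvd (by norm_num) hsk
      have := hkp.two_le
      omega
    have hsk' : s ∣ q ^ k - 1 := (hsm k).2 dvd_rfl
    have h2 : PConn (ProjectiveSpecialLinearGroup (Fin n) F) s 2 :=
      (adj_two_of_le hs hs2 hkp.pos (by omega) hsk' hs1).symm.conn
    rcases eq_or_ne b s with hbs | hbs
    · rw [hbs]; exact h2
    · exact (PAdj.conn (adj_top (by omega) hb hs hbs hbn (dvd_pow_sub_one_of_dvd hsk' hkd) hb1 hs1)).trans h2
  right; right
  have hn3 : n = 3 := by
    rcases hp2.eq_two_or_odd' with h | h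
    · omega
    · rcases hp1.eq_two_or_odd' with h' | h'
      · omega
      · exfalso
        obtain ⟨u, hu⟩ := h
        obtain ⟨v, hv⟩ := h'
        omega
  subst hn3
  refine ⟨rfl, ?_⟩
  rcases (Nat.dvd_prime Nat.prime_three).1 hqn with h7 | h7
  · left; omega
  · right; omega

/-- **The prime graph of `PSL_n(q)`, `n ≥ 3`:** at most two components, except `n = 3`, `q ∈ {2, 4}`. -/
theorem three_PConn {a b : ℕ} (hn : 3 ≤ n) (ha : a.Prime) (hb : b.Prime) (ha2 : a ≠ 2) (hb2 : b ≠ 2)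
    (haS : a ∣ Nat.card (ProjectiveSpecialLinearGroup (Fin n) F))
    (hbS : b ∣ Nat.card (ProjectiveSpecialLinearGroup (Fin n) F)) :
    PConn (ProjectiveSpecialLinearGroup (Fin n) F) 2 a ∨
    PConn (ProjectiveSpecialLinearGroup (Fin n) F) 2 b ∨
    PConn (ProjectiveSpecialLinearGroup (Fin n) F) a b ∨
      (n = 3 ∧ (Nat.card F = 2 ∨ Nat.card F = 4)) := by
  rcases eq_or_ne a b with hab | hab
  · rw [hab]
    exact Or.inr (Or.inr (Or.inl Relation.ReflTransGen.refl))
  rcases cases_odd hn ha ha2 haS with h | h | ⟨ha1, h⟩ | ⟨ha1, h⟩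
  · exact Or.inl h.symm
  · exact Or.inr (Or.inr (Or.inr h))
  · rcases cases_odd hn hb hb2 hbS with h' | h' | ⟨hb1, h'⟩ | ⟨hb1, h'⟩
    · exact Or.inr (Or.inl h'.symm)
    · exact Or.inr (Or.inr (Or.inr h'))
    · refine Or.inr (Or.inr (Or.inl ?_))
      obtain ⟨m, rfl⟩ : ∃ m, n = m + 1 := ⟨n - 1, by omega⟩
      exact (adj_sub (by omega) ha hb hab h h' ha1 hb1).conn
    · rcases mixed hn ha hb hb2 ha1 hb1 h h' with h3 | h3 | h3
      · exact Or.inl h3.symm
      · exact Or.inr (Or.inl h3.symm)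
      · exact Or.inr (Or.inr (Or.inr h3))
  · rcases cases_odd hn hb hb2 hbS with h' | h' | ⟨hb1, h'⟩ | ⟨hb1, h'⟩
    · exact Or.inr (Or.inl h'.symm)
    · exact Or.inr (Or.inr (Or.inr h'))
    · rcases mixed hn hb ha ha2 hb1 ha1 h' h with h3 | h3 | h3
      · exact Or.inr (Or.inl h3.symm)
      · exact Or.inl h3.symm
      · exact Or.inr (Or.inr (Or.inr h3))
    · exact Or.inr (Or.inr (Or.inl (adj_top (by omega) ha hb hab h h' ha1 hb1).conn))

end main

section H94
open Cfsg.Agent.H94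

theorem conn_of_PConn {G : Type*} [Group G] {a b : ℕ} (h : PConn G a b) :
    PG.Conn G a b := by
  induction h with
  | refl => exact Relation.ReflTransGen.refl
  | @tail c d _ h2 ih =>
    refine Relation.ReflTransGen.tail ih ?_
    obtain ⟨hc, hd, hcd, g, hg⟩ := h2
    have hpos : 0 < orderOf g := by rw [hg]; exact Nat.mul_pos hc.pos hd.pos
    have hfin : IsOfFinOrder g := orderOf_pos_iff.1 hpos
    obtain ⟨x, hx, hxo⟩ := exists_orderOf_of_dvd (x := g) (n := c) hfin (by rw [hg]; exact Dvd.intro _ rfl)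
    obtain ⟨y, hy, hyo⟩ := exists_orderOf_of_dvd (x := g) (n := d) hfin (by rw [hg]; exact Dvd.intro_left _ rfl)
    refine ⟨hc, hd, hcd, x, y, hxo, hyo, ?_⟩
    obtain ⟨i, rfl⟩ := Subgroup.mem_zpowers_iff.1 hx
    obtain ⟨j, rfl⟩ := Subgroup.mem_zpowers_iff.1 hy
    exact (Commute.refl g).zpow_zpow i j

/-- **The prime graph of `PSL_n(q)`, `n ≥ 3`:** at most two components, except `n = 3`, `q ∈ {2, 4}`
(in terms of `H94.PG.Conn`). -/
theorem three {F : Type*} [Field F] [Finite F] {n : ℕ} {a b : ℕ} (hn : 3 ≤ n) (ha : a.Prime)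
    (hb : b.Prime) (ha2 : a ≠ 2) (hb2 : b ≠ 2)
    (haS : a ∣ Nat.card (ProjectiveSpecialLinearGroup (Fin n) F))
    (hbS : b ∣ Nat.card (ProjectiveSpecialLinearGroup (Fin n) F)) :
    PG.Conn (ProjectiveSpecialLinearGroup (Fin n) F) 2 a ∨
    PG.Conn (ProjectiveSpecialLinearGroup (Fin n) F) 2 b ∨
    PG.Conn (ProjectiveSpecialLinearGroup (Fin n) F) a b ∨
      (n = 3 ∧ (Nat.card F = 2 ∨ Nat.card F = 4)) := by
  rcases three_PConn hn ha hb ha2 hb2 haS hbS with h | h | h | h
  · exact Or.inl (conn_of_PConn h)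
  · exact Or.inr (Or.inl (conn_of_PConn h))
  · exact Or.inr (Or.inr (Or.inl (conn_of_PConn h)))
  · exact Or.inr (Or.inr (Or.inr h))

end H94

end Cfsg.Agent.H371.Psl

private theorem dce_21e689ed4c98 : _root_.True := by
  try have : _root_.True := by simp only [_root_.Cfsg.Agent.H371.Psl.dg.eq_1]
  exact _root_.True.intro
end

-- part: H360/Iso/Basic
section
set_option linter.all false
open scoped Cfsg.Agent.FastGrp

/-!
# Groups with an isolated number (helper360)

`IsoN T n`: `n` is an element order of `T`, prime to `6`, `31 ≤ n`, and every element order which is not prime to `n`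
divides `n`.  This is the situation of a composition factor `T` of a group with the spectrum of `PSU(3, q)`,
`PSL(3, q)`, ... (`n` the order of the isolated torus).
-/

set_option autoImplicit false

namespace Cfsg.Agent.H360.Iso

open Cfsg.Agent.H371

/-- `n` is an isolated number of `T`. -/
structure IsoN (T : Type*) [Group T] (n : ℕ) : Prop where
  elt : ∃ x : T, orderOf x = n
  iso : ∀ (x : T) (r : ℕ), r.Prime → r ∣ n → r ∣ orderOf x → orderOf x ∣ n
  not_two_dvd : ¬ 2 ∣ n
  not_three_dvd : ¬ 3 ∣ n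
  big : 31 ≤ n

section

variable {T : Type*} [Group T] {n : ℕ}

theorem IsoN.congr {T' : Type*} [Group T'] (h : IsoN T n) (e : T ≃* T') : IsoN T' n := by
  have key : ∀ x : T', orderOf (e.symm x) = orderOf x := fun x =>
    orderOf_injective e.symm.toMonoidHom e.symm.injective x
  obtain ⟨x, hx⟩ := h.elt
  refine ⟨⟨e x, ?_⟩, ?_, h.not_two_dvd, h.not_three_dvd, h.big⟩
  · rw [← key, MulEquiv.symm_apply_apply, hx]
  · intro x r hr hrn hd
    rw [← key] at hd ⊢
    exact h.iso _ r hr hrn hd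

theorem IsoN.ne_two (h : IsoN T n) {r : ℕ} (hd : r ∣ n) : r ≠ 2 := by
  rintro rfl
  exact h.not_two_dvd hd

theorem IsoN.ne_three (h : IsoN T n) {r : ℕ} (hd : r ∣ n) : r ≠ 3 := by
  rintro rfl
  exact h.not_three_dvd hd

theorem IsoN.odd (h : IsoN T n) : Odd n := by
  rw [← Nat.not_even_iff_odd, even_iff_two_dvd]
  exact h.not_two_dvd

theorem IsoN.exists_prime (h : IsoN T n) : ∃ r : ℕ, r.Prime ∧ r ∣ n :=
  Nat.exists_prime_and_dvd (by have := h.big; omega)

/-- an element order divisible by a prime divisor of `n` divides `n` -/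
theorem IsoN.dvd_of_elt (h : IsoN T n) {N r : ℕ} (he : ∃ x : T, orderOf x = N) (hr : r.Prime) (hrn : r ∣ n)
    (hrN : r ∣ N) : N ∣ n := by
  obtain ⟨x, rfl⟩ := he
  exact h.iso x r hr hrn hrN

theorem IsoN.not_adj' (h : IsoN T n) {r s : ℕ} (hr : r.Prime) (hrn : r ∣ n) (hsn : ¬ s ∣ n) :
    ¬ PAdj T r s := by
  rintro ⟨-, -, -, g, hg⟩
  exact hsn ((dvd_mul_left s r).trans (h.dvd_of_elt ⟨g, hg⟩ hr hrn (dvd_mul_right r s)))

theorem IsoN.dvd_of_padj (h : IsoN T n) {r s : ℕ} (hrn : r ∣ n) (ha : PAdj T r s) : s ∣ n := by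
  by_contra hs
  exact h.not_adj' ha.1 hrn hs ha

theorem IsoN.dvd_of_pconn (h : IsoN T n) {r s : ℕ} (hrn : r ∣ n) (hc : PConn T r s) : s ∣ n := by
  induction hc with
  | refl => exact hrn
  | tail _ h2 ih => exact h.dvd_of_padj ih h2

theorem IsoN.not_pconn (h : IsoN T n) {r : ℕ} (hrn : r ∣ n) : ¬ PConn T r 2 := fun hc =>
  h.not_two_dvd (h.dvd_of_pconn hrn hc)

theorem IsoN.dvd_of_adj [Finite T] (h : IsoN T n) {r s : ℕ} (hrn : r ∣ n) (ha : H94.PG.Adj T r s) : s ∣ n := by
  obtain ⟨hr, hs, hne, x, y, hx, hy, hc⟩ := ha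
  exact h.dvd_of_padj hrn (adj_of_commute hc hr hs hne (by rw [hx]) (by rw [hy]))

theorem IsoN.dvd_of_conn [Finite T] (h : IsoN T n) {r s : ℕ} (hrn : r ∣ n) (hc : H94.PG.Conn T r s) : s ∣ n := by
  unfold H94.PG.Conn at hc
  induction hc with
  | refl => exact hrn
  | tail _ h2 ih => exact h.dvd_of_adj ih h2

theorem IsoN.not_conn [Finite T] (h : IsoN T n) {r : ℕ} (hrn : r ∣ n) : ¬ H94.PG.Conn T r 2 := fun hc =>
  h.not_two_dvd (h.dvd_of_conn hrn hc)

theorem IsoN.not_adj [Finite T] (h : IsoN T n) {r : ℕ} (hrn : r ∣ n) : ¬ H94.PG.Adj T r 2 := fun hc =>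
  h.not_two_dvd (h.dvd_of_adj hrn hc)

theorem IsoN.not_near [Finite T] (h : IsoN T n) {r : ℕ} (hrn : r ∣ n) : ¬ H564.NearTwo.Near T r := fun hc =>
  h.not_conn hrn hc.conn

theorem IsoN.dvd_card [Finite T] (h : IsoN T n) : n ∣ Nat.card T := by
  obtain ⟨x, rfl⟩ := h.elt
  exact orderOf_dvd_natCard x

theorem IsoN.prime_dvd_card [Finite T] (h : IsoN T n) {r : ℕ} (hrn : r ∣ n) : r ∣ Nat.card T :=
  hrn.trans h.dvd_card

/-- an element of order exactly `N` from one of order a multiple of `N` -/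
theorem exists_order [Finite T] {N : ℕ} (he : ∃ x : T, N ∣ orderOf x) : ∃ x : T, orderOf x = N := by
  obtain ⟨x, hx⟩ := he
  obtain ⟨y, -, hy⟩ := exists_orderOf_of_dvd (isOfFinOrder_of_finite x) hx
  exact ⟨y, hy⟩

end

/-- if all prime divisors of `n` are `≡ 1 mod 3` then all divisors are -/
theorem mod_of_dvd {n : ℕ} (hn0 : n ≠ 0) (h : ∀ r : ℕ, r.Prime → r ∣ n → r % 3 = 1) {d : ℕ} (hd : d ∣ n) :
    d % 3 = 1 := by
  have hd0 : d ≠ 0 := by
    rintro rfl
    exact hn0 (Nat.eq_zero_of_zero_dvd hd)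
  have key : ∀ l : List ℕ, (∀ r ∈ l, r % 3 = 1) → l.prod % 3 = 1 := by
    intro l
    induction l with
    | nil => intro _; rfl
    | cons a l ih =>
      intro hl
      rw [List.prod_cons, Nat.mul_mod, hl a (by simp), ih fun r hr => hl r (by simp [hr])]
  rw [← Nat.prod_primeFactorsList hd0]
  exact key _ fun r hr => h r (Nat.prime_of_mem_primeFactorsList hr)
    ((Nat.dvd_of_mem_primeFactorsList hr).trans hd)

/-- removing factors prime to `n` -/
theorem dvd_of_primes {n A B : ℕ} (h : n ∣ A * B) (hA : ∀ r : ℕ, r.Prime → r ∣ n → ¬ r ∣ A) : n ∣ B := by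
  refine Nat.Coprime.dvd_of_dvd_mul_left ?_ h
  exact Nat.Coprime.symm (Nat.coprime_of_dvd fun k hk hkA hkn => hA k hk hkn hkA)

/-- removing a product of factors prime to `n` -/
theorem not_dvd_prod {ι : Type*} {n : ℕ} {s : Finset ι} {f : ι → ℕ} (h : ∀ i ∈ s, ¬ n ∣ f i) (hn : n.Prime) :
    ¬ n ∣ ∏ i ∈ s, f i := by
  intro hd
  obtain ⟨i, hi, hi'⟩ := (Prime.dvd_finsetProd_iff hn.prime _).1 hd
  exact h i hi hi'

/-- the odd part -/
theorem dvd_of_odd_two_mul {n B : ℕ} (h : n ∣ 2 * B) (hn : Odd n) : n ∣ B :=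
  (Nat.coprime_two_right.2 hn).dvd_of_dvd_mul_left h

end Cfsg.Agent.H360.Iso
end

-- part: H360/Iso/LinElt
section
set_option linter.all false
open scoped Cfsg.Agent.FastGrp

/-!
# Elements of the maximal tori of `PSL_n(q)` (helper360)

* `exists_top`: an element `x` with `q ^ n - 1 ∣ orderOf x * gcd(n, q-1) * (q - 1)`;
* `exists_sub`: an element `x` with `q ^ (n-1) - 1 ∣ orderOf x * gcd(n, q-1)`;
* `exists_two`: for `q = 2` an element of order `(2 ^ a - 1) (2 ^ b - 1)`, `a + b = n`, `a`, `b` coprime.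
-/

set_option autoImplicit false

namespace Cfsg.Agent.H360.Iso

open Matrix Cfsg.Agent.H371 Cfsg.Agent.H371.Psl

section

variable {F : Type*} [Field F] [Finite F]

theorem pow_gcd_of {c : F} {n : ℕ} (h1 : c ^ n = 1) (h2 : c ≠ 0) : c ^ Nat.gcd n (Nat.card F - 1) = 1 :=
  pow_gcd_eq_one.2 ⟨h1, pow_card_sub_one h2⟩

theorem exists_top {n : ℕ} (hn : 1 ≤ n) : ∃ x : ProjectiveSpecialLinearGroup (Fin n) F,
    Nat.card F ^ n - 1 ∣ orderOf x * Nat.gcd n (Nat.card F - 1) * (Nat.card F - 1) := by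
  have : NeZero n := ⟨by omega⟩
  obtain ⟨K, _, _, hK, f, hf⟩ := LieExceptional.CyclicSylow.exists_singer F n
  obtain ⟨z, hz⟩ := IsCyclic.exists_ofOrder_eq_natCard (α := Kˣ)
  have hcard : orderOf z = Nat.card F ^ n - 1 := by rw [hz, Nat.card_units, hK]
  set q := Nat.card F with hq
  set M : Matrix (Fin n) (Fin n) F := (f z : Matrix (Fin n) (Fin n) F) ^ (q - 1) with hM
  have hd : M.det = 1 := by
    rw [hM, Matrix.det_pow]
    exact pow_card_sub_one (by
      have := ((Matrix.isUnit_iff_isUnit_det _).1 (f z).isUnit).ne_zero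
      exact this)
  set A : Matrix.SpecialLinearGroup (Fin n) F := ⟨M, hd⟩ with hA
  refine ⟨π n F A, ?_⟩
  set o := orderOf (π n F A) with ho
  have h1 : π n F (A ^ o) = 1 := by rw [map_pow, ho, pow_orderOf_eq_one]
  obtain ⟨c, hc, hc'⟩ := exists_scalar h1
  have hc0 : c ≠ 0 := by
    rintro rfl
    rw [zero_pow (by omega)] at hc
    exact zero_ne_one hc
  have hcg := pow_gcd_of hc hc0
  have h2 : (f z) ^ (o * Nat.gcd n (q - 1) * (q - 1)) = 1 := by
    apply Units.ext
    rw [Units.val_pow_eq_pow_val, Units.val_one]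
    have h3 : (M ^ o) ^ Nat.gcd n (q - 1) = 1 := by
      have h4 : M ^ o = c • 1 := by
        rw [Matrix.SpecialLinearGroup.coe_pow] at hc'
        exact hc'
      rw [h4, smul_pow, one_pow, hcg, one_smul]
    rw [← h3, hM, ← pow_mul, ← pow_mul]
    congr 1
    ring
  rw [← hcard]
  apply orderOf_dvd_of_pow_eq_one
  apply hf
  rw [map_pow, map_one, h2]

theorem exists_sub {m : ℕ} (hm : 1 ≤ m) : ∃ x : ProjectiveSpecialLinearGroup (Fin (m + 1)) F,
    Nat.card F ^ m - 1 ∣ orderOf x * Nat.gcd (m + 1) (Nat.card F - 1) := by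
  have : NeZero m := ⟨by omega⟩
  obtain ⟨K, _, _, hK, f, hf⟩ := LieExceptional.CyclicSylow.exists_singer F m
  obtain ⟨z, hz⟩ := IsCyclic.exists_ofOrder_eq_natCard (α := Kˣ)
  have hcard : orderOf z = Nat.card F ^ m - 1 := by rw [hz, Nat.card_units, hK]
  set q := Nat.card F with hq
  set M : Matrix (Fin m) (Fin m) F := (f z : Matrix (Fin m) (Fin m) F) with hM
  have hd0 : M.det ≠ 0 := ((Matrix.isUnit_iff_isUnit_det _).1 (f z).isUnit).ne_zero
  have hdet : M.det * ((M.det)⁻¹ • (1 : Matrix (Fin 1) (Fin 1) F)).det = 1 := by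
    rw [Matrix.det_smul, Matrix.det_one, Fintype.card_fin, pow_one, mul_one, mul_inv_cancel₀ hd0]
  set A := slb M ((M.det)⁻¹ • (1 : Matrix (Fin 1) (Fin 1) F)) hdet with hA
  refine ⟨π (m + 1) F A, ?_⟩
  set o := orderOf (π (m + 1) F A) with ho
  have h1 : π (m + 1) F (A ^ o) = 1 := by rw [map_pow, ho, pow_orderOf_eq_one]
  obtain ⟨c, hc, hc'⟩ := exists_scalar h1
  have hc0 : c ≠ 0 := by
    rintro rfl
    rw [zero_pow (by omega)] at hc
    exact zero_ne_one hc
  have hcg := pow_gcd_of hc hc0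
  rw [Matrix.SpecialLinearGroup.coe_pow, ← mblk_smul_one] at hc'
  change mblk M _ ^ o = _ at hc'
  rw [mblk_pow] at hc'
  obtain ⟨h4, -⟩ := mblk_inj hc'
  have h2 : (f z) ^ (o * Nat.gcd (m + 1) (q - 1)) = 1 := by
    apply Units.ext
    rw [Units.val_pow_eq_pow_val, Units.val_one, pow_mul]
    change (M ^ o) ^ _ = 1
    rw [h4, smul_pow, one_pow, hcg, one_smul]
  rw [← hcard]
  apply orderOf_dvd_of_pow_eq_one
  apply hf
  rw [map_pow, map_one, h2]

theorem orderOf_pi (h2 : Nat.card F = 2) {n : ℕ} (A : Matrix.SpecialLinearGroup (Fin n) F) :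
    orderOf (π n F A) = orderOf A := by
  refine orderOf_eq_orderOf_iff.2 fun k => ?_
  constructor
  · intro h
    rw [← map_pow] at h
    rcases Nat.eq_zero_or_pos n with rfl | hn
    · exact Subsingleton.elim _ _
    obtain ⟨c, hc, hc'⟩ := exists_scalar h
    have hc0 : c ≠ 0 := by
      rintro rfl
      rw [zero_pow (by omega)] at hc
      exact zero_ne_one hc
    have h3 := pow_card_sub_one hc0
    rw [h2, pow_one] at h3
    rw [h3, one_smul] at hc'
    exact Subtype.ext hc'
  · intro h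
    rw [← map_pow, h, map_one]

/-- an element of order `(2 ^ a - 1) (2 ^ b - 1)` -/
theorem exists_two (h2 : Nat.card F = 2) {a b : ℕ} (ha : 1 ≤ a) (hb : 1 ≤ b) (hab : Nat.Coprime (2 ^ a - 1) (2 ^ b - 1)) :
    ∃ x : ProjectiveSpecialLinearGroup (Fin (a + b)) F, orderOf x = (2 ^ a - 1) * (2 ^ b - 1) := by
  have key : ∀ k : ℕ, 1 ≤ k → ∃ M : Matrix (Fin k) (Fin k) F, orderOf M = 2 ^ k - 1 ∧ M.det = 1 := by
    intro k hk
    obtain ⟨A, -, -, hA, -⟩ := exists_gl (F := F) hk (a := 2 ^ k - 1) (b := 1) (by rw [h2]) (one_dvd _)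
    refine ⟨A, ?_, ?_⟩
    · rw [← hA]
      exact orderOf_units
    · have hd0 : (A : Matrix (Fin k) (Fin k) F).det ≠ 0 :=
        ((Matrix.isUnit_iff_isUnit_det _).1 A.isUnit).ne_zero
      have := pow_card_sub_one hd0
      rwa [h2, pow_one] at this
  obtain ⟨A, hA, hAd⟩ := key a ha
  obtain ⟨B, hB, hBd⟩ := key b hb
  refine ⟨π (a + b) F (slb A B (by rw [hAd, hBd, one_mul])), ?_⟩
  rw [orderOf_pi h2, ← hA, ← hB]
  have h3 : orderOf (slb A B (by rw [hAd, hBd, one_mul])) = Nat.lcm (orderOf A) (orderOf B) := by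
    refine Nat.dvd_antisymm ?_ (Nat.lcm_dvd ?_ ?_)
    · apply orderOf_dvd_of_pow_eq_one
      refine slb_pow_eq_one _ ?_ ?_
      · exact orderOf_dvd_iff_pow_eq_one.1 (Nat.dvd_lcm_left _ _)
      · exact orderOf_dvd_iff_pow_eq_one.1 (Nat.dvd_lcm_right _ _)
    all_goals
      apply orderOf_dvd_of_pow_eq_one
      set k := orderOf (slb A B (by rw [hAd, hBd, one_mul])) with hk
      have h4 : (slb A B (by rw [hAd, hBd, one_mul]) : Matrix.SpecialLinearGroup (Fin (a + b)) F) ^ k = 1 := by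
        rw [hk, pow_orderOf_eq_one]
      have h5 := congrArg (fun M : Matrix.SpecialLinearGroup (Fin (a + b)) F =>
        (M : Matrix (Fin (a + b)) (Fin (a + b)) F)) h4
      simp only [Matrix.SpecialLinearGroup.coe_pow, Matrix.SpecialLinearGroup.coe_one] at h5
      change mblk A B ^ k = 1 at h5
      rw [mblk_pow, ← mblk_one] at h5
      first
      | exact (mblk_inj h5).1
      | exact (mblk_inj h5).2
  rw [h3]
  exact Nat.Coprime.lcm_eq_mul (by rw [hA, hB]; exact hab)

end

end Cfsg.Agent.H360.Iso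

private theorem dce_752c53e64646 : _root_.True := by
  try have : _root_.True := by simp only [_root_.Cfsg.Agent.H371.Psl.slb.congr_simp]
  exact _root_.True.intro
end
end
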