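import Mathlib
import Cfsg.Agent.Prune
set_option linter.all false
prune_inst 0x7f00000000000000000000000000000000000000000000000000000000000000000000000000000000000000000000000000000000000000000000000000000000000000000000000000000000000000003fffffffffffffffffffffffffffbeffbdffffffff
open scoped Cfsg.Agent.FastGrp

/-!
# Values of small cyclotomic polynomials at integers (helper371)
-/

set_option autoImplicit false

namespace Cfsg.Agent.H371.CycEval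

open Polynomial

/-- the value of the `n`-th cyclotomic polynomial -/
noncomputable abbrev ev (n : ℕ) (q : ℤ) : ℤ := (cyclotomic n ℤ).eval q

theorem ev_dvd {p n : ℕ} (hp : p.Prime) (h : p ∣ n) (q : ℤ) : ev (n * p) q = ev n (q ^ p) := by
  rw [ev, ← cyclotomic_expand_eq_cyclotomic hp h ℤ, expand_eval]

theorem ev_mul {p n : ℕ} (hp : p.Prime) (h : ¬ p ∣ n) (q : ℤ) : ev (n * p) q * ev n q = ev n (q ^ p) := by
  rw [ev, ev, ← eval_mul, ← cyclotomic_expand_eq_cyclotomic_mul hp h ℤ, expand_eval]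

theorem ev_pos {n : ℕ} (hn : 2 < n) (q : ℤ) : 0 < ev n q := cyclotomic_pos hn q

theorem ev2 (q : ℤ) : ev 2 q = q + 1 := by simp [ev, cyclotomic_two]

theorem ev3 (q : ℤ) : ev 3 q = q ^ 2 + q + 1 := by simp [ev, cyclotomic_three]

theorem ev4 (q : ℤ) : ev 4 q = q ^ 2 + 1 := by
  have h := ev_dvd Nat.prime_two (n := 2) dvd_rfl q
  rw [ev2] at h
  exact h

theorem ev5 (q : ℤ) : ev 5 q = q ^ 4 + q ^ 3 + q ^ 2 + q + 1 := by
  have : Fact (Nat.Prime 5) := ⟨by norm_num⟩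
  simp [ev, cyclotomic_prime, Finset.sum_range_succ]
  ring

theorem ev6 (q : ℤ) : ev 6 q = q ^ 2 - q + 1 := by
  have h := ev_mul Nat.prime_two (n := 3) (by norm_num) q
  have h0 := (ev_pos (n := 3) (by norm_num) q).ne'
  apply mul_right_cancel₀ h0
  rw [ev3 (q ^ 2)] at h
  have h1 : ev 6 q * ev 3 q = (q ^ 2) ^ 2 + q ^ 2 + 1 := h
  rw [h1, ev3]
  ring

theorem ev8 (q : ℤ) : ev 8 q = q ^ 4 + 1 := by
  have h := ev_dvd Nat.prime_two (n := 4) (by norm_num) q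
  rw [ev4] at h
  have h1 : ev 8 q = (q ^ 2) ^ 2 + 1 := h
  rw [h1]
  ring

theorem ev9 (q : ℤ) : ev 9 q = q ^ 6 + q ^ 3 + 1 := by
  have h := ev_dvd Nat.prime_three (n := 3) (by norm_num) q
  rw [ev3] at h
  have h1 : ev 9 q = (q ^ 3) ^ 2 + q ^ 3 + 1 := h
  rw [h1]
  ring

theorem ev10 (q : ℤ) : ev 10 q = q ^ 4 - q ^ 3 + q ^ 2 - q + 1 := by
  have h := ev_mul Nat.prime_two (n := 5) (by norm_num) q
  have h0 := (ev_pos (n := 5) (by norm_num) q).ne'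
  apply mul_right_cancel₀ h0
  rw [ev5 (q ^ 2)] at h
  have h1 : ev 10 q * ev 5 q = (q ^ 2) ^ 4 + (q ^ 2) ^ 3 + (q ^ 2) ^ 2 + q ^ 2 + 1 := h
  rw [h1, ev5]
  ring

theorem ev12 (q : ℤ) : ev 12 q = q ^ 4 - q ^ 2 + 1 := by
  have h := ev_dvd Nat.prime_two (n := 6) (by norm_num) q
  rw [ev6] at h
  have h1 : ev 12 q = (q ^ 2) ^ 2 - q ^ 2 + 1 := h
  rw [h1]
  ring

theorem ev15 (q : ℤ) : ev 15 q = q ^ 8 - q ^ 7 + q ^ 5 - q ^ 4 + q ^ 3 - q + 1 := by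
  have h := ev_mul Nat.prime_three (n := 5) (by norm_num) q
  have h0 := (ev_pos (n := 5) (by norm_num) q).ne'
  apply mul_right_cancel₀ h0
  rw [ev5 (q ^ 3)] at h
  have h1 : ev 15 q * ev 5 q = (q ^ 3) ^ 4 + (q ^ 3) ^ 3 + (q ^ 3) ^ 2 + q ^ 3 + 1 := h
  rw [h1, ev5]
  ring

theorem ev20 (q : ℤ) : ev 20 q = q ^ 8 - q ^ 6 + q ^ 4 - q ^ 2 + 1 := by
  have h := ev_dvd Nat.prime_two (n := 10) (by norm_num) q
  rw [ev10] at h
  have h1 : ev 20 q = (q ^ 2) ^ 4 - (q ^ 2) ^ 3 + (q ^ 2) ^ 2 - q ^ 2 + 1 := h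
  rw [h1]
  ring

theorem ev24 (q : ℤ) : ev 24 q = q ^ 8 - q ^ 4 + 1 := by
  have h := ev_dvd Nat.prime_two (n := 12) (by norm_num) q
  rw [ev12] at h
  have h1 : ev 24 q = (q ^ 2) ^ 4 - (q ^ 2) ^ 2 + 1 := h
  rw [h1]
  ring

theorem ev30 (q : ℤ) : ev 30 q = q ^ 8 + q ^ 7 - q ^ 5 - q ^ 4 - q ^ 3 + q + 1 := by
  have h := ev_mul Nat.prime_two (n := 15) (by norm_num) q
  have h0 := (ev_pos (n := 15) (by norm_num) q).ne'
  apply mul_right_cancel₀ h0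
  rw [ev15 (q ^ 2)] at h
  have h1 : ev 30 q * ev 15 q = (q ^ 2) ^ 8 - (q ^ 2) ^ 7 + (q ^ 2) ^ 5 - (q ^ 2) ^ 4 + (q ^ 2) ^ 3 - q ^ 2 + 1 := h
  rw [h1, ev15]
  ring

end Cfsg.Agent.H371.CycEval

private theorem dce_2d7d04cfebc1 : _root_.True := by
  try have : _root_.True := by simp only [_root_.Cfsg.Agent.H371.CycEval.ev.eq_1]
  exact _root_.True.intro
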