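import Cfsg.Agent.H371.AlgLemma_m3
import Cfsg.Agent.H390.PslSpec
import Cfsg.Agent.H363.PslCard
import Cfsg.Agent.CharactersDeep.QuatSylow
import Cfsg.Agent.S0205
import Cfsg.Agent.S1230
import Cfsg.Agent.S3633
import Cfsg.Agent.Prune
set_option linter.all false
prune_inst 0x7f00000000000000000000000000000000000000000000000000000000000000000000000000000000000000000000000000000000000000000000000000000000000000000000000000000000000000003fffffffffffffffffffffffffffbeffbdffffffff
open scoped Cfsg.Agent.FastGrp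

/-!
# Recognition of `PSL_2(q)`, `q` even, by spectrum (helper371)
-/

set_option autoImplicit false

namespace Cfsg.Agent.H371.EvenTwo

open Subgroup

variable {F : Type*} [Field F] [Fintype F]

/-- **Recognition of `PSL_2(q)`, `q` even.** -/
theorem even_case {G : Type*} [Group G] [Finite G] (hq : 4 ≤ Fintype.card F) (heven : Even (Fintype.card F))
    (hspec : Set.range (orderOf : G → ℕ) =
      Set.range (orderOf : Matrix.ProjectiveSpecialLinearGroup (Fin 2) F → ℕ)) :
    Nonempty (G ≃* Matrix.ProjectiveSpecialLinearGroup (Fin 2) F) := by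
  classical
  obtain ⟨p, hchar⟩ := CharP.exists F
  obtain ⟨f, hp, hf⟩ := FiniteField.card F p
  have hpf : Fact p.Prime := ⟨hp⟩
  have hp2 : p = 2 := by
    rw [hf] at heven
    have h1 : Even p := (Nat.even_pow.mp heven).1
    exact (hp.even_iff).mp h1
  subst hp2
  have hrange := H390.PslSpec.range_orderOf (F := F) (p := 2) hq
  have hdd : H390.PslSpec.dd (Fintype.card F) = 1 := H390.PslSpec.dd_even heven (by omega)
  set q := Fintype.card F with hqdef
  have hodd1 : ¬ 2 ∣ q + 1 := by have := heven.two_dvd; omega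
  have hodd2 : ¬ 2 ∣ q - 1 := by have := heven.two_dvd; omega
  have hcases : ∀ g : G, orderOf g ∣ 2 ∨ orderOf g ∣ q - 1 ∨ orderOf g ∣ q + 1 := by
    intro g
    have h1 : orderOf g ∈ Set.range (orderOf : Matrix.ProjectiveSpecialLinearGroup (Fin 2) F → ℕ) := by
      rw [← hspec]; exact ⟨g, rfl⟩
    rw [hrange] at h1
    simpa [H390.PslSpec.specSet, hdd] using h1
  have hex : ∀ k : ℕ, (k ∣ 2 ∨ k ∣ q - 1 ∨ k ∣ q + 1) → ∃ g : G, orderOf g = k := by
    intro k hk
    have h1 : k ∈ Set.range (orderOf : G → ℕ) := by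
      rw [hspec, hrange]
      simpa [H390.PslSpec.specSet, hdd] using hk
    obtain ⟨g, hg⟩ := h1
    exact ⟨g, hg⟩
  -- coprimality
  have hcop : (q - 1).Coprime (q + 1) := by
    rw [Nat.coprime_iff_gcd_eq_one]
    have h1 : Nat.gcd (q - 1) (q + 1) ∣ 2 := by
      have h2 : Nat.gcd (q - 1) (q + 1) ∣ (q + 1) - (q - 1) :=
        Nat.dvd_sub (Nat.gcd_dvd_right _ _) (Nat.gcd_dvd_left _ _)
      have h3 : (q + 1) - (q - 1) = 2 := by omega
      rwa [h3] at h2
    rcases (Nat.dvd_prime Nat.prime_two).1 h1 with h2 | h2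
    · exact h2
    · exfalso
      apply hodd2
      rw [← h2]
      exact Nat.gcd_dvd_left _ _
  -- an element order divisible by `a > 1` and `b > 1` from different parts
  have hsep : ∀ (g : G) (a b : ℕ), a ≠ 1 → b ≠ 1 → a ∣ q - 1 → b ∣ q + 1 → a * b ∣ orderOf g → False := by
    intro g a b ha hb haq hbq hg
    have h1 : a ∣ orderOf g := (Dvd.intro _ rfl).trans hg
    have h2 : b ∣ orderOf g := (Dvd.intro_left _ rfl).trans hg
    rcases hcases g with h | h | h
    · have h3 := (Nat.dvd_prime Nat.prime_two).1 (h1.trans h)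
      rcases h3 with h3 | h3
      · exact ha h3
      · exact hodd2 (h3 ▸ haq)
    · exact hb (Nat.eq_one_of_dvd_coprimes hcop (h2.trans h) hbq)
    · exact ha (Nat.eq_one_of_dvd_coprimes hcop haq (h1.trans h))
  have hev : ∀ g : G, 2 ∣ orderOf g → orderOf g = 2 := by
    intro g hg
    rcases hcases g with h | h | h
    · exact Nat.dvd_antisymm h hg
    · exact absurd (hg.trans h) hodd2
    · exact absurd (hg.trans h) hodd1
  -- centralizers of involutions
  have hC : ∀ t : G, orderOf t = 2 → IsMulCommutative (Subgroup.centralizer ({t} : Set G)) ∧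
      ∀ c ∈ Subgroup.centralizer ({t} : Set G), c ^ 2 = 1 := by
    intro t ht
    have hsq : ∀ c ∈ Subgroup.centralizer ({t} : Set G), c ^ 2 = 1 := by
      intro c hc
      have hct : Commute c t := mem_centralizer_singleton_iff.mp hc
      by_cases h2 : 2 ∣ orderOf c
      · rw [← hev c h2, pow_orderOf_eq_one]
      · have hcc : (orderOf c).Coprime (orderOf t) := by
          rw [ht]
          exact (Nat.coprime_comm.1 ((Nat.Prime.coprime_iff_not_dvd Nat.prime_two).2 h2))
        have h3 := hct.orderOf_mul_eq_mul_orderOf_of_coprime hcc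
        have h4 := hev (c * t) (by rw [h3, ht]; exact Dvd.intro_left _ rfl)
        rw [h3, ht] at h4
        have h5 : orderOf c = 1 := by omega
        rw [orderOf_eq_one_iff.1 h5, one_pow]
    refine ⟨⟨⟨?_⟩⟩, hsq⟩
    intro a b
    have ha : a * a = 1 := Subtype.ext (by rw [← pow_two]; exact hsq a a.2)
    have hb : b * b = 1 := Subtype.ext (by rw [← pow_two]; exact hsq b b.2)
    have hab : (a * b) * (a * b) = 1 := Subtype.ext (by
      rw [← pow_two]; exact hsq _ (mul_mem a.2 b.2))
    have h5 : a⁻¹ = a := inv_eq_of_mul_eq_one_left ha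
    have h6 : b⁻¹ = b := inv_eq_of_mul_eq_one_left hb
    have h7 : (a * b)⁻¹ = a * b := inv_eq_of_mul_eq_one_left hab
    rw [mul_inv_rev, h5, h6] at h7
    exact h7.symm
  obtain ⟨t, ht⟩ := hex 2 (Or.inl dvd_rfl)
  obtain ⟨x, hx⟩ := hex (q - 1) (Or.inr (Or.inl dvd_rfl))
  obtain ⟨y, hy⟩ := hex (q + 1) (Or.inr (Or.inr dvd_rfl))
  let T : Sylow 2 G := default
  -- not cyclic
  have hnc : ¬ IsCyclic (T : Subgroup G) := by
    intro hc
    obtain ⟨K, hKodd, -, hK⟩ := Cfsg.Agent.CharactersDeep.QuatSylow.exists_two_complement T hc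
    have hKn : ∀ k ∈ K, t * k * t⁻¹ ∈ K := by
      intro k hk
      rw [hK] at hk ⊢
      have : orderOf (t * k * t⁻¹) = orderOf k :=
        orderOf_injective (MulAut.conj t).toMonoidHom (MulAut.conj t).injective k
      rwa [this]
    let φ : K →* K :=
      { toFun := fun k => ⟨t * k * t⁻¹, hKn k k.2⟩
        map_one' := by apply Subtype.ext; simp
        map_mul' := fun a b => by apply Subtype.ext; simp }
    have htt : t * t = 1 := by rw [← pow_two, ← ht, pow_orderOf_eq_one]
    have hti : t⁻¹ = t := inv_eq_of_mul_eq_one_left htt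
    have hfp : MonoidHom.FixedPointFree φ := by
      intro k hk
      have h1 : t * (k : G) * t⁻¹ = k := congrArg Subtype.val hk
      have h2 : (k : G) ∈ centralizer ({t} : Set G) := by
        rw [mem_centralizer_singleton_iff]
        exact (mul_inv_eq_iff_eq_mul.1 h1).symm
      have h3 := (hC t ht).2 _ h2
      have h4 : Odd (orderOf (k : G)) := (hK k).1 k.2
      have h5 := orderOf_dvd_of_pow_eq_one h3
      rcases (Nat.dvd_prime Nat.prime_two).1 h5 with h6 | h6
      · exact Subtype.ext (orderOf_eq_one_iff.1 h6)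
      · rw [h6] at h4
        exact absurd h4 (by decide)
    have hinv : Function.Involutive φ := by
      intro k
      apply Subtype.ext
      change t * (t * (k : G) * t⁻¹) * t⁻¹ = k
      rw [hti]
      calc t * (t * (k : G) * t) * t = (t * t) * k * (t * t) := by simp only [mul_assoc]
        _ = k := by rw [htt, one_mul, mul_one]
    have hcomm := hfp.commute_all_of_involutive hinv
    have hxK : x ∈ K := by
      rw [hK, hx, Nat.odd_iff]; omega
    have hyK : y ∈ K := by
      rw [hK, hy, Nat.odd_iff]; omega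
    have h1 : Commute x y := congrArg Subtype.val (hcomm ⟨x, hxK⟩ ⟨y, hyK⟩)
    have h2 := h1.orderOf_mul_eq_mul_orderOf_of_coprime (by rw [hx, hy]; exact hcop)
    rw [hx, hy] at h2
    exact hsep (x * y) (q - 1) (q + 1) (by omega) (by omega) dvd_rfl dvd_rfl (by rw [h2])
  -- not normal
  have hnn : ¬ (T : Subgroup G).Normal := by
    intro hn
    obtain ⟨r, hr, hrq⟩ := Nat.exists_prime_and_dvd (n := q - 1) (by omega)
    obtain ⟨s, hs, hsq⟩ := Nat.exists_prime_and_dvd (n := q + 1) (by omega)
    have hr2 : r ≠ 2 := by rintro rfl; exact hodd2 hrq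
    have hs2 : s ≠ 2 := by rintro rfl; exact hodd1 hsq
    have hrs : r ≠ s := by
      rintro rfl
      exact hr.one_lt.ne' (Nat.eq_one_of_dvd_coprimes hcop hrq hsq)
    have hcard : ({2, r, s} : Finset ℕ).card = 3 := by
      rw [Finset.card_insert_of_notMem, Finset.card_insert_of_notMem, Finset.card_singleton]
      · simpa using hrs
      · simp only [Finset.mem_insert, Finset.mem_singleton, not_or]
        exact ⟨hr2.symm, hs2.symm⟩
    have hdvd : ∀ k : ℕ, (k ∣ 2 ∨ k ∣ q - 1 ∨ k ∣ q + 1) → k ∣ Nat.card G := by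
      intro k hk
      obtain ⟨g, hg⟩ := hex k hk
      rw [← hg]; exact orderOf_dvd_natCard g
    have h2r : ∀ r : ℕ, r.Prime → r ≠ 2 → ∀ g : G, orderOf g ≠ 2 * r := by
      intro r hr hr2 g hg
      have h1 := hev g (by rw [hg]; exact Dvd.intro _ rfl)
      rw [h1] at hg
      have := hr.two_le
      omega
    have hrs' : ∀ g : G, orderOf g ≠ r * s := by
      intro g hg
      exact hsep g r s hr.one_lt.ne' hs.one_lt.ne' hrq hsq (by rw [hg])
    have hns := (Cfsg.Agent.S3633.result ({2, r, s} : Finset ℕ) (by rw [hcard]) ⟨by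
      intro a ha
      simp only [Finset.mem_insert, Finset.mem_singleton] at ha
      rcases ha with rfl | rfl | rfl
      · exact ⟨Nat.prime_two, hdvd 2 (Or.inl dvd_rfl)⟩
      · exact ⟨hr, hdvd _ (Or.inr (Or.inl hrq))⟩
      · exact ⟨hs, hdvd _ (Or.inr (Or.inr hsq))⟩, by
      intro a ha b hb hab
      simp only [Finset.mem_insert, Finset.mem_singleton] at ha hb
      rintro ⟨g, hg⟩
      rcases ha with rfl | rfl | rfl <;> rcases hb with rfl | rfl | rfl
      · exact hab rfl
      · exact h2r _ hr hr2 g hg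
      · exact h2r _ hs hs2 g hg
      · exact h2r _ hr hr2 g (by rw [hg, mul_comm])
      · exact hab rfl
      · exact hrs' g hg
      · exact h2r _ hs hs2 g (by rw [hg, mul_comm])
      · exact hrs' g (by rw [hg, mul_comm])
      · exact hab rfl⟩ ⊥ inferInstance).2
    apply hns
    have h1 : Group.IsSolvable (T : Subgroup G) := by
      have := T.isPGroup'.isNilpotent
      infer_instance
    have h2 : Group.IsSolvable (G ⧸ (T : Subgroup G)) := by
      apply Cfsg.Agent.S0205.result
      rw [← Subgroup.index_eq_card, Nat.odd_iff]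
      have := T.not_dvd_index
      omega
    exact Group.isSolvable_of_ker_le_range (T : Subgroup G).subtype (QuotientGroup.mk' (T : Subgroup G))
      (by rw [QuotientGroup.ker_mk', Subgroup.range_subtype])
  obtain ⟨F', _, _, hF', ⟨e⟩⟩ := Cfsg.Agent.S1230.result T hnc hnn hC
  -- compare the spectra
  have hrange' : Set.range (orderOf : Matrix.ProjectiveSpecialLinearGroup (Fin 2) F' → ℕ) =
      Set.range (orderOf : Matrix.ProjectiveSpecialLinearGroup (Fin 2) F → ℕ) := by
    rw [← hspec]
    exact (Cfsg.Agent.H363.PslCard.spec_of_equiv e).1.symm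
  have hcardeq : Fintype.card F' = q := by
    obtain ⟨k, hk⟩ := T.isPGroup'.exists_card_eq
    have hF'k : Fintype.card F' = 2 ^ k := by rw [hF']; exact hk
    set q' := Fintype.card F' with hq'
    have hk1 : 2 ≤ k := by
      by_contra hcon
      apply hnc
      have h1 : k = 0 ∨ k = 1 := by omega
      rcases h1 with rfl | rfl
      · rw [pow_zero] at hk
        have : Subsingleton (T : Subgroup G) := (Nat.card_eq_one_iff_unique.1 hk).1
        infer_instance
      · rw [pow_one] at hk
        exact isCyclic_of_prime_card (p := 2) hk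
    have hq'4 : 4 ≤ q' := by
      rw [hF'k]
      calc 4 = 2 ^ 2 := rfl
        _ ≤ 2 ^ k := Nat.pow_le_pow_right (by norm_num) hk1
    have hq'e : Even q' := by
      rw [hF'k]
      exact (Nat.even_pow.2 ⟨by norm_num, by omega⟩)
    have hch : CharP F' 2 := by
      obtain ⟨c, hc⟩ := CharP.exists F'
      obtain ⟨n, hcp, hn⟩ := FiniteField.card F' c
      have : c = 2 := by
        have h2c : 2 ∣ c ^ (n : ℕ) := by
          rw [← hn]; exact hq'e.two_dvd
        exact ((Nat.prime_dvd_prime_iff_eq Nat.prime_two hcp).1 (Nat.prime_two.dvd_of_dvd_pow h2c)).symm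
      rwa [this] at hc
    have hr' := H390.PslSpec.range_orderOf (F := F') (p := 2) hq'4
    have hdd' : H390.PslSpec.dd q' = 1 := H390.PslSpec.dd_even hq'e (by omega)
    rw [hr', hrange] at hrange'
    have key : ∀ {a b : ℕ}, 4 ≤ a → 4 ≤ b → H390.PslSpec.dd a = 1 → H390.PslSpec.dd b = 1 →
        H390.PslSpec.specSet 2 a = H390.PslSpec.specSet 2 b → a ≤ b := by
      intro a b ha hb hda hdb hab
      have h1 : a + 1 ∈ H390.PslSpec.specSet 2 a := by
        simp [H390.PslSpec.specSet, hda]
      rw [hab] at h1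
      simp only [H390.PslSpec.specSet, Set.mem_ofPred_eq, hdb, Nat.div_one] at h1
      rcases h1 with h1 | h1 | h1
      · have := Nat.le_of_dvd (by norm_num) h1; omega
      · have := Nat.le_of_dvd (by omega) h1; omega
      · have := Nat.le_of_dvd (by omega) h1; omega
    exact le_antisymm (key hq'4 hq hdd' hdd hrange') (key hq hq'4 hdd hdd' hrange'.symm)
  obtain ⟨e'⟩ := Cfsg.Agent.H363.PslCard.psl_of_card (n := Fin 2) (F := F') (F' := F) hcardeq
  exact ⟨e.trans e'⟩

end Cfsg.Agent.H371.EvenTwo

private theorem dce_db7a91f94fc5 : _root_.True := by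
  try have : _root_.True := by simp only [_root_.Cfsg.Agent.H390.PslSpec.specSet.eq_1]
  exact _root_.True.intro
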